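import Cfsg.Agent.H765.D3.Cub

/-!
# S5261: cross product and `t^#` on the cubic extension `K / F`
-/

set_option autoImplicit false
set_option linter.unusedSectionVars false

namespace Cfsg.Agent.H765.D3

open Cfsg.Agent.Hexagon.Pos
open Cfsg.Agent.Hex.Defs (sh cr nm tr)

variable {F K : Type*} [Field F] [Field K] [Algebra F K]
variable (φ : K ≃ₐ[F] K) [Cub φ]

/-- Dedekind independence of `1, φ, φ²` -/
theorem dedekind {x y z : K} (h : ∀ s : K, x * s + y * φ s + z * φ (φ s) = 0) : x = 0 ∧ y = 0 ∧ z = 0 := by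
  obtain ⟨θ, hθ⟩ := Cub.ne (φ := φ)
  have hθ2 : φ (φ θ) ≠ θ := fun e => hθ (by
    have := congrArg φ e
    rw [phi3] at this
    exact this.symm)
  have hθ3 : φ (φ θ) ≠ φ θ := fun e => hθ (φ.injective e)
  -- eliminate `x`
  have h3 : ∀ s : K, y * (φ θ - θ) * φ s + z * (φ (φ θ) - θ) * φ (φ s) = 0 := fun s => by
    have e1 := h (s * θ)
    rw [map_mul, map_mul] at e1
    have e2 := h s
    linear_combination e1 - θ * e2
  have h4 : z = 0 := by
    have e1 := h3 θ
    have e2 := h3 1
    rw [map_one, map_one] at e2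
    have e3 : z * (φ (φ θ) - θ) * (φ (φ θ) - φ θ) = 0 := by linear_combination e1 - φ θ * e2
    rcases mul_eq_zero.1 e3 with e | e
    · rcases mul_eq_zero.1 e with e | e
      · exact e
      · exact absurd (sub_eq_zero.1 e) hθ2
    · exact absurd (sub_eq_zero.1 e) hθ3
  have h5 : y = 0 := by
    have e2 := h3 1
    rw [map_one, map_one, h4] at e2
    have e3 : y * (φ θ - θ) = 0 := by linear_combination e2
    exact (mul_eq_zero.1 e3).resolve_right (sub_ne_zero.2 hθ)
  refine ⟨?_, h5, h4⟩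
  have := h 1
  rw [map_one, map_one, h4, h5] at this
  linear_combination this

/-- `cr` is nondegenerate -/
theorem cr_nondeg {c : K} (h : ∀ a : K, cr φ a c = 0) : c = 0 := by
  have := (dedekind φ (x := 0) (y := φ (φ c)) (z := φ c) fun s => by
    have := h s
    rw [cr] at this
    linear_combination this).2.2
  simpa using this

theorem cr_nondeg' {c : K} (h : ∀ a : K, cr φ c a = 0) : c = 0 :=
  cr_nondeg φ fun a => by rw [cr_comm, h]

/-- `cr (a, ·)` is injective if the characteristic is not two -/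
theorem cr_eq_zero (h2 : (2 : K) ≠ 0) {a b : K} (h : cr φ a b = 0) : a = 0 ∨ b = 0 := by
  by_cases ha : a = 0
  · exact Or.inl ha
  right
  have ha1 : φ a ≠ 0 := by simpa using ha
  have ha2 : φ (φ a) ≠ 0 := by simpa using ha
  rw [cr] at h
  have e1 : φ (φ b) * φ a = -(φ (φ a) * φ b) := by linear_combination h
  have e2 := congrArg φ e1
  have e3 := congrArg φ e2
  simp only [map_mul, map_neg, phi3] at e2 e3
  -- `e1 : b₂ a₁ = - a₂ b₁`, `e2 : b a₂ = - a b₂`, `e3 : b₁ a = - a₁ b`
  have e4 : 2 * b * (a * φ a * φ (φ a)) = 0 := by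
    linear_combination a * φ a * e2 - a * a * e1 + a * φ (φ a) * e3
  rcases mul_eq_zero.1 e4 with e | e
  · exact (mul_eq_zero.1 e).resolve_left h2
  · simp [ha] at e

/-- kernel of `cr (a, ·)` in characteristic two -/
theorem cr_eq_zero_two (h2 : (2 : K) = 0) {a b : K} (ha : a ≠ 0) (h : cr φ a b = 0) : ∃ s : F, b = s • a := by
  have ha1 : φ a ≠ 0 := by simpa using ha
  have ha2 : φ (φ a) ≠ 0 := by simpa using ha
  rw [cr] at h
  have e1 : φ (φ b) * φ a = -(φ (φ a) * φ b) := by linear_combination h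
  have e2 : φ (b / a) = b / a := by
    apply φ.injective
    rw [map_div₀, map_div₀, div_eq_div_iff ha2 ha1]
    linear_combination e1 - φ (φ a) * φ b * h2
  obtain ⟨s, hs⟩ := exists_coe φ e2
  refine ⟨s, ?_⟩
  rw [Algebra.smul_def, hs, div_mul_cancel₀ _ ha]

theorem cr_smul_self_two (h2 : (2 : K) = 0) (s : F) (a : K) : cr φ a (s • a) = 0 := by
  rw [cr_smul_right, cr_self, h2, zero_mul, smul_zero]

/-- every element is a sum of two cross products -/
theorem exists_cr_add (s : K) : ∃ a c c' : K, s = cr φ a c + cr φ 1 c' := by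
  obtain ⟨c, hc⟩ : ∃ c : K, cr φ 1 c ≠ 0 := by
    by_contra hcon
    push Not at hcon
    exact one_ne_zero (cr_nondeg' φ hcon)
  obtain ⟨a0, ha0⟩ : ∃ a : K, tr φ (a * cr φ 1 c) ≠ 0 := by
    by_contra hcon
    push Not at hcon
    exact hc (tr_nondeg φ fun t => by rw [mul_comm]; exact hcon t)
  let r : F := tr φ s / tr φ (a0 * cr φ 1 c)
  have h1 : tr φ (cr φ (r • a0) c) = tr φ s := by
    have e : tr φ (cr φ (r • a0) c) = r * tr φ (a0 * cr φ 1 c) := by
      have := tr_cr φ (r • a0) c 1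
      rw [mul_one, cr_comm φ c 1, smul_mul_assoc, tr_smul] at this
      exact this
    rw [e, div_mul_cancel₀ _ ha0]
  refine ⟨r • a0, c, cr φ (r • a0) c - s, ?_⟩
  rw [cr_one_left, tr_sub, h1, sub_self, map_zero]
  ring

/-- `sh` of a product by an inverse -/
theorem cr_mul (r a b : K) : cr φ (r * a) (r * b) = sh φ r * cr φ a b := by cub

/-- Cayley-Hamilton -/
theorem sh_eq (t : K) : sh φ t = t ^ 2 - tr φ t • t + tr φ (sh φ t) • (1 : K) := by cub

end Cfsg.Agent.H765.D3
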