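import Cfsg.Agent.H765.D3.Model
import Cfsg.Agent.H765.D3.Cross

/-!
# S5261: centralizers, centre, central series and orders in `Sy φ`
-/

set_option autoImplicit false
set_option linter.unusedSectionVars false

namespace Cfsg.Agent.H765.D3

open Cfsg.Agent.Hexagon.Pos
open Cfsg.Agent.Hex.Defs (sh cr nm tr)
open scoped commutatorElement

variable {F K : Type*} [Field F] [Field K] [Algebra F K]

namespace Sy

variable {φ : K ≃ₐ[F] K} [Cub φ]

/-! ### Membership of the root elements -/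

theorem u4_mem (w : F) : u4 φ w ∈ Z1 φ := ⟨rfl, rfl, rfl, rfl, rfl⟩
theorem u2_mem (t : F) : u2 φ t ∈ Z2 φ := ⟨rfl, rfl, rfl, rfl⟩
theorem u3_mem (b : K) : u3 φ b ∈ Z3 φ := ⟨rfl, rfl, rfl⟩
theorem u5_mem (c : K) : u5 φ c ∈ Z4 φ := ⟨rfl, rfl⟩
theorem u6_mem (u : F) : u6 φ u ∈ Q1 φ := rfl
theorem u1_mem (a : K) : u1 φ a ∈ Q2 φ := rfl

theorem eq_u4 {x : Sy φ} (h : x ∈ Z1 φ) : x = u4 φ x.x4 := by
  obtain ⟨h1, h2, h3, h4, h5⟩ := h
  ext
  · exact h1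
  · exact h2
  · exact h3
  · exact h4
  · exact h5
  · rfl

/-! ### Detection of the coordinates by commutators -/

theorem x1_eq_zero {x : Sy φ} (h : (⁅x, u6 φ 1⁆).x5 = 0) : x.x1 = 0 := by
  rw [comm_x5] at h
  simpa [u6] using h

theorem x6_eq_zero {x : Sy φ} (h : (⁅x, u1 φ 1⁆).x5 = 0) : x.x6 = 0 := by
  rw [comm_x5] at h
  simpa [u1] using h

/-- `x` centralizes `U2` modulo nothing iff `x.x6 = 0` -/
theorem x6_eq_zero' {x : Sy φ} (h : ⁅x, u2 φ 1⁆ = 1) : x.x6 = 0 := by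
  rw [comm_Z2 (u2_mem 1)] at h
  have := congrArg Sy.x4 h
  simpa [u4, u2] using this

theorem x5_eq_zero {x : Sy φ} (hx : x ∈ Z4 φ) (h : ∀ a, (⁅u1 φ a, x⁆).x3 = 0) : x.x5 = 0 :=
  cr_nondeg φ fun a => by
    have := h a
    rw [comm_x3 hx] at this
    exact this

theorem x3_eq_zero {x : Sy φ} (hx : x ∈ Z3 φ) (h : ∀ a, (⁅u1 φ a, x⁆).x2 = 0) : x.x3 = 0 :=
  tr_nondeg φ fun a => by
    have := h a
    rw [comm_x2' hx] at this
    rw [mul_comm]
    exact this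

/-! ### Centralizers -/

theorem mem_centralizer {H : Subgroup (Sy φ)} {x : Sy φ} :
    x ∈ Subgroup.centralizer (H : Set (Sy φ)) ↔ ∀ y ∈ H, ⁅x, y⁆ = 1 := by
  rw [Subgroup.mem_centralizer_iff]
  refine forall₂_congr fun y _ => ?_
  rw [commutatorElement_eq_one_iff_mul_comm]
  exact eq_comm

theorem comm_Z3_Z3 {x y : Sy φ} (hx : x ∈ Z3 φ) (hy : y ∈ Z3 φ) : ⁅x, y⁆ = 1 := by
  rw [comm_Q1 hx.1 hy.1, form, hx.2.1, hx.2.2, hy.2.1, hy.2.2]
  simp only [zero_mul, mul_zero, tr_zero, sub_zero, add_zero]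
  rfl

theorem centralizer_Z2 : Subgroup.centralizer (Z2 φ : Set (Sy φ)) = Q2 φ := by
  ext x
  rw [mem_centralizer, mem_Q2]
  constructor
  · intro h
    exact x6_eq_zero' (h _ (u2_mem 1))
  · intro h y hy
    rw [comm_Z2 hy, h, zero_mul]; rfl

theorem centralizer_Z3 : Subgroup.centralizer (Z3 φ : Set (Sy φ)) = Z3 φ := by
  ext x
  rw [mem_centralizer]
  constructor
  · intro h
    have h6 : x.x6 = 0 := x6_eq_zero' (h _ (Z2_le_Z3 (u2_mem 1)))
    have h1 : x.x1 = 0 := by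
      apply tr_nondeg φ
      intro b
      have := congrArg Sy.x2 (h _ (u3_mem b))
      rw [comm_x2' (u3_mem b)] at this
      exact this
    refine ⟨h1, h6, ?_⟩
    apply tr_nondeg φ
    intro b
    have := congrArg Sy.x4 (h _ (u3_mem b))
    rw [comm_x4' (u3_mem b), h6] at this
    have e : (u3 φ b).x3 = b := rfl
    rw [e, zero_mul, zero_mul, zero_sub, add_zero] at this
    rw [mul_comm]
    exact neg_eq_zero.1 this
  · intro hx y hy
    exact comm_Z3_Z3 hx hy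

theorem centralizer_Z4 : Subgroup.centralizer (Z4 φ : Set (Sy φ)) = Z2 φ := by
  ext x
  constructor
  · intro h
    have h3 : x ∈ Z3 φ := by
      rw [← centralizer_Z3]
      exact Subgroup.centralizer_le (fun y hy => Z3_le_Z4 hy) h
    rw [mem_centralizer] at h
    refine ⟨h3.1, h3.2.1, h3.2.2, ?_⟩
    apply tr_nondeg φ
    intro c
    have := congrArg Sy.x4 (h _ (u5_mem c))
    rw [comm_Q1 h3.1 (u5_mem c).1, form, h3.2.1, h3.2.2] at this
    simp only [u4, u5, mul_zero, tr_zero, sub_zero, zero_add, one_x4] at this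
    exact this
  · intro hx
    rw [mem_centralizer]
    intro y hy
    rw [← commutatorElement_inv, comm_Z2 hx, hy.2, zero_mul]
    exact inv_one

theorem centralizer_Q1 : Subgroup.centralizer (Q1 φ : Set (Sy φ)) = Z1 φ := by
  ext x
  constructor
  · intro h
    have h2 : x ∈ Z2 φ := by
      rw [← centralizer_Z4]
      exact Subgroup.centralizer_le (fun y hy => Z4_le_Q1 hy) h
    rw [mem_centralizer] at h
    refine ⟨h2.1, h2.2.1, h2.2.2.1, h2.2.2.2, ?_⟩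
    have := h _ (u6_mem 1)
    rw [← commutatorElement_inv, inv_eq_one, comm_Z2 h2] at this
    have := congrArg Sy.x4 this
    simpa [u4, u6] using this
  · intro hx
    rw [mem_centralizer]
    intro y hy
    rw [← commutatorElement_inv, comm_Z1 hx, inv_one]

theorem centralizer_Q2 : Subgroup.centralizer (Q2 φ : Set (Sy φ)) = Z2 φ := by
  ext x
  constructor
  · intro h
    rw [← centralizer_Z4]
    exact Subgroup.centralizer_le (fun y hy => Z4_le_Q2 hy) h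
  · intro hx
    rw [mem_centralizer]
    intro y hy
    rw [← commutatorElement_inv, comm_Z2 hx, hy, zero_mul]
    exact inv_one

theorem center_eq : Subgroup.center (Sy φ) = Z1 φ := by
  apply le_antisymm
  · rw [← centralizer_Q1]
    intro x hx
    rw [Subgroup.mem_centralizer_iff]
    intro y _
    exact Subgroup.mem_center_iff.1 hx y
  · intro x hx
    rw [Subgroup.mem_center_iff]
    intro y
    exact commutatorElement_eq_one_iff_mul_comm.1 (comm_Z1 (x := y) hx)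

/-- `Z2 = {x : [S, x] ≤ Z1}` -/
theorem mem_Z2_iff {x : Sy φ} : x ∈ Z2 φ ↔ ∀ y : Sy φ, ⁅y, x⁆ ∈ Z1 φ := by
  constructor
  · intro hx y
    rw [comm_Z2 hx]
    exact u4_mem _
  · intro h
    have h1 : x.x1 = 0 := x1_eq_zero (by
      have := (Z1 φ).inv_mem (h (u6 φ 1))
      rw [commutatorElement_inv] at this
      exact this.2.2.1)
    have h6 : x.x6 = 0 := x6_eq_zero (by
      have := (Z1 φ).inv_mem (h (u1 φ 1))
      rw [commutatorElement_inv] at this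
      exact this.2.2.1)
    have h5 : x.x5 = 0 := x5_eq_zero ⟨h1, h6⟩ fun a => (h _).2.2.2.1
    exact ⟨h1, h6, h5, x3_eq_zero ⟨h1, h6, h5⟩ fun a => (h _).2.2.2.2⟩

/-- `Z3 = {x : [S, x] ≤ Z2}` -/
theorem mem_Z3_iff {x : Sy φ} : x ∈ Z3 φ ↔ ∀ y : Sy φ, ⁅y, x⁆ ∈ Z2 φ := by
  constructor
  · intro hx y
    exact comm_mem_Z2 hx
  · intro h
    have h1 : x.x1 = 0 := x1_eq_zero (by
      have := (Z2 φ).inv_mem (h (u6 φ 1))
      rw [commutatorElement_inv] at this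
      exact this.2.2.1)
    have h6 : x.x6 = 0 := x6_eq_zero (by
      have := (Z2 φ).inv_mem (h (u1 φ 1))
      rw [commutatorElement_inv] at this
      exact this.2.2.1)
    exact ⟨h1, h6, x5_eq_zero ⟨h1, h6⟩ fun a => (h _).2.2.2⟩

/-- `Z4 = {x : [S, x] ≤ Z3}` -/
theorem mem_Z4_iff {x : Sy φ} : x ∈ Z4 φ ↔ ∀ y : Sy φ, ⁅y, x⁆ ∈ Z3 φ := by
  constructor
  · intro hx y
    exact comm_mem_Z3 hx
  · intro h
    have h1 : x.x1 = 0 := x1_eq_zero (by
      have := (Z3 φ).inv_mem (h (u6 φ 1))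
      rw [commutatorElement_inv] at this
      exact this.2.2)
    have h6 : x.x6 = 0 := x6_eq_zero (by
      have := (Z3 φ).inv_mem (h (u1 φ 1))
      rw [commutatorElement_inv] at this
      exact this.2.2)
    exact ⟨h1, h6⟩

/-- `Q1 = {x : [x, Z3] ≤ Z1}` -/
theorem mem_Q1_iff {x : Sy φ} : x ∈ Q1 φ ↔ ∀ y ∈ Z3 φ, ⁅x, y⁆ ∈ Z1 φ := by
  constructor
  · intro hx y hy
    rw [comm_Q1 hx hy.1]
    exact u4_mem _
  · intro h
    apply tr_nondeg φ
    intro b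
    have := (h _ (u3_mem b)).2.2.2.2
    rw [comm_x2' (u3_mem b)] at this
    exact this

/-! ### Characteristic subgroups -/

theorem char_of_forall {G : Type*} [Group G] {H : Subgroup G} (h : ∀ (α : G ≃* G), ∀ x ∈ H, α x ∈ H) :
    H.Characteristic := by
  rw [Subgroup.characteristic_iff_map_le]
  rintro α _ ⟨x, hx, rfl⟩
  exact h α x hx

theorem map_Z1 (α : Sy φ ≃* Sy φ) {x : Sy φ} (hx : x ∈ Z1 φ) : α x ∈ Z1 φ := by
  rw [← center_eq, Subgroup.mem_center_iff] at hx ⊢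
  intro y
  have := congrArg α (hx (α.symm y))
  simpa using this

theorem map_Z2 (α : Sy φ ≃* Sy φ) {x : Sy φ} (hx : x ∈ Z2 φ) : α x ∈ Z2 φ := by
  rw [mem_Z2_iff] at hx ⊢
  intro y
  have := map_Z1 α (hx (α.symm y))
  rwa [map_commutatorElement, MulEquiv.apply_symm_apply] at this

theorem map_Z3 (α : Sy φ ≃* Sy φ) {x : Sy φ} (hx : x ∈ Z3 φ) : α x ∈ Z3 φ := by
  rw [mem_Z3_iff] at hx ⊢
  intro y
  have := map_Z2 α (hx (α.symm y))
  rwa [map_commutatorElement, MulEquiv.apply_symm_apply] at this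

theorem map_Z4 (α : Sy φ ≃* Sy φ) {x : Sy φ} (hx : x ∈ Z4 φ) : α x ∈ Z4 φ := by
  rw [mem_Z4_iff] at hx ⊢
  intro y
  have := map_Z3 α (hx (α.symm y))
  rwa [map_commutatorElement, MulEquiv.apply_symm_apply] at this

theorem map_Q1 (α : Sy φ ≃* Sy φ) {x : Sy φ} (hx : x ∈ Q1 φ) : α x ∈ Q1 φ := by
  rw [mem_Q1_iff] at hx ⊢
  intro y hy
  have := map_Z1 α (hx (α.symm y) (map_Z3 α.symm hy))
  rwa [map_commutatorElement, MulEquiv.apply_symm_apply] at this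

theorem map_Q2 (α : Sy φ ≃* Sy φ) {x : Sy φ} (hx : x ∈ Q2 φ) : α x ∈ Q2 φ := by
  rw [← centralizer_Z2, mem_centralizer] at hx ⊢
  intro y hy
  have := congrArg α (hx (α.symm y) (map_Z2 α.symm hy))
  rwa [map_commutatorElement, MulEquiv.apply_symm_apply, map_one] at this

instance : (Z1 φ).Characteristic := char_of_forall fun α _ hx => map_Z1 α hx
instance : (Z2 φ).Characteristic := char_of_forall fun α _ hx => map_Z2 α hx
instance : (Z3 φ).Characteristic := char_of_forall fun α _ hx => map_Z3 α hx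
instance : (Z4 φ).Characteristic := char_of_forall fun α _ hx => map_Z4 α hx
instance : (Q1 φ).Characteristic := char_of_forall fun α _ hx => map_Q1 α hx
instance : (Q2 φ).Characteristic := char_of_forall fun α _ hx => map_Q2 α hx

/-! ### Orders -/

section Card

variable [Finite K] [Finite F]

theorem card_Z1 : Nat.card (Z1 φ) = Nat.card F := by
  refine Nat.card_congr ⟨fun x => x.1.x4, fun w => ⟨u4 φ w, u4_mem w⟩, fun x => ?_, fun w => rfl⟩
  exact Subtype.ext (eq_u4 x.2).symm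

theorem card_Z2 : Nat.card (Z2 φ) = Nat.card F ^ 2 := by
  rw [Nat.card_congr (β := F × F) ⟨fun x => (x.1.x2, x.1.x4), fun w => ⟨⟨0, 0, 0, 0, w.1, w.2⟩, rfl, rfl, rfl, rfl⟩,
    fun x => ?_, fun w => rfl⟩, Nat.card_prod, sq]
  obtain ⟨x, h1, h2, h3, h4⟩ := x
  apply Subtype.ext
  ext
  exacts [h1.symm, h2.symm, h3.symm, h4.symm, rfl, rfl]

theorem card_Z3 : Nat.card (Z3 φ) = Nat.card K * Nat.card F ^ 2 := by
  rw [Nat.card_congr (β := K × F × F) ⟨fun x => (x.1.x3, x.1.x2, x.1.x4),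
    fun w => ⟨⟨0, 0, 0, w.1, w.2.1, w.2.2⟩, rfl, rfl, rfl⟩,
    fun x => ?_, fun w => rfl⟩, Nat.card_prod, Nat.card_prod, sq]
  obtain ⟨x, h1, h2, h3⟩ := x
  apply Subtype.ext
  ext
  exacts [h1.symm, h2.symm, h3.symm, rfl, rfl, rfl]

theorem card_Z4 : Nat.card (Z4 φ) = Nat.card K ^ 2 * Nat.card F ^ 2 := by
  rw [Nat.card_congr (β := K × K × F × F) ⟨fun x => (x.1.x5, x.1.x3, x.1.x2, x.1.x4),
    fun w => ⟨⟨0, 0, w.1, w.2.1, w.2.2.1, w.2.2.2⟩, rfl, rfl⟩,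
    fun x => ?_, fun w => rfl⟩, Nat.card_prod, Nat.card_prod, Nat.card_prod]
  · ring
  obtain ⟨x, h1, h2⟩ := x
  apply Subtype.ext
  ext
  exacts [h1.symm, h2.symm, rfl, rfl, rfl, rfl]

theorem card_Q1 : Nat.card (Q1 φ) = Nat.card K ^ 2 * Nat.card F ^ 3 := by
  rw [Nat.card_congr (β := F × K × K × F × F) ⟨fun x => (x.1.x6, x.1.x5, x.1.x3, x.1.x2, x.1.x4),
    fun w => ⟨⟨0, w.1, w.2.1, w.2.2.1, w.2.2.2.1, w.2.2.2.2⟩, rfl⟩,
    fun x => ?_, fun w => rfl⟩, Nat.card_prod, Nat.card_prod, Nat.card_prod, Nat.card_prod]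
  · ring
  obtain ⟨x, h1⟩ := x
  apply Subtype.ext
  ext
  exacts [Eq.symm h1, rfl, rfl, rfl, rfl, rfl]

theorem card_Q2 : Nat.card (Q2 φ) = Nat.card K ^ 3 * Nat.card F ^ 2 := by
  rw [Nat.card_congr (β := K × K × K × F × F) ⟨fun x => (x.1.x1, x.1.x5, x.1.x3, x.1.x2, x.1.x4),
    fun w => ⟨⟨w.1, 0, w.2.1, w.2.2.1, w.2.2.2.1, w.2.2.2.2⟩, rfl⟩,
    fun x => ?_, fun w => rfl⟩, Nat.card_prod, Nat.card_prod, Nat.card_prod, Nat.card_prod]
  · ring
  obtain ⟨x, h1⟩ := x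
  apply Subtype.ext
  ext
  exacts [rfl, Eq.symm h1, rfl, rfl, rfl, rfl]

end Card

/-- the quotient by `Q1` -/
def hom1 (φ : K ≃ₐ[F] K) [Cub φ] : Sy φ →* Multiplicative K where
  toFun x := Multiplicative.ofAdd x.x1
  map_one' := rfl
  map_mul' _ _ := rfl

/-- the quotient by `Q2` -/
def hom6 (φ : K ≃ₐ[F] K) [Cub φ] : Sy φ →* Multiplicative F where
  toFun x := Multiplicative.ofAdd x.x6
  map_one' := rfl
  map_mul' _ _ := rfl

theorem ker_hom1 : (hom1 φ).ker = Q1 φ := by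
  ext x
  exact Iff.rfl

theorem ker_hom6 : (hom6 φ).ker = Q2 φ := by
  ext x
  exact Iff.rfl

theorem hom1_surjective : Function.Surjective (hom1 φ) := fun a => ⟨u1 φ a.toAdd, rfl⟩

theorem hom6_surjective : Function.Surjective (hom6 φ) := fun a => ⟨u6 φ a.toAdd, rfl⟩

theorem index_Q1 : (Q1 φ).index = Nat.card K := by
  rw [← ker_hom1, Subgroup.index_ker, MonoidHom.range_eq_top.2 hom1_surjective]
  exact Subgroup.card_top

theorem index_Q2 : (Q2 φ).index = Nat.card F := by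
  rw [← ker_hom6, Subgroup.index_ker, MonoidHom.range_eq_top.2 hom6_surjective]
  exact Subgroup.card_top

/-! ### Commutator subgroups -/

theorem comm_top_Z1 : ⁅(⊤ : Subgroup (Sy φ)), Z1 φ⁆ = ⊥ := by
  rw [eq_bot_iff, Subgroup.commutator_le]
  intro x _ y hy
  rw [comm_Z1 hy]
  exact one_mem _

theorem comm_top_Z2 : ⁅(⊤ : Subgroup (Sy φ)), Z2 φ⁆ = Z1 φ := by
  apply le_antisymm
  · rw [Subgroup.commutator_le]
    intro x _ y hy
    rw [comm_Z2 hy]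
    exact u4_mem _
  · intro x hx
    rw [eq_u4 hx]
    have : u4 φ x.x4 = ⁅u6 φ x.x4, u2 φ 1⁆ := by
      rw [comm_Z2 (u2_mem 1)]
      simp [u6, u2]
    rw [this]
    exact Subgroup.commutator_mem_commutator trivial (u2_mem 1)

theorem comm_top_Z3 : ⁅(⊤ : Subgroup (Sy φ)), Z3 φ⁆ = Z2 φ := by
  apply le_antisymm
  · rw [Subgroup.commutator_le]
    intro x _ y hy
    exact comm_mem_Z2 hy
  · have h1 : Z1 φ ≤ ⁅(⊤ : Subgroup (Sy φ)), Z3 φ⁆ := by
      rw [← comm_top_Z2]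
      exact Subgroup.commutator_mono le_rfl Z2_le_Z3
    intro x hx
    obtain ⟨s, hs⟩ := exists_tr_ne φ
    have h2 : ⁅u1 φ ((x.x2 / tr φ s) • s), u3 φ 1⁆ ∈ ⁅(⊤ : Subgroup (Sy φ)), Z3 φ⁆ :=
      Subgroup.commutator_mem_commutator trivial (u3_mem 1)
    have h3 : (⁅u1 φ ((x.x2 / tr φ s) • s), u3 φ 1⁆).x2 = x.x2 := by
      rw [comm_x2' (u3_mem 1)]
      simp only [u1, u3]
      rw [mul_one, tr_smul, div_mul_cancel₀ _ hs]
    have h4 := comm_mem_Z2 (x := u1 φ ((x.x2 / tr φ s) • s)) (u3_mem (φ := φ) 1)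
    set z := ⁅u1 φ ((x.x2 / tr φ s) • s), u3 φ 1⁆
    have h5 : x = z * (z⁻¹ * x) := by group
    rw [h5]
    refine mul_mem h2 (h1 ?_)
    refine ⟨?_, ?_, ?_, ?_, ?_⟩
    · rw [mul_x1, inv_x1, h4.1, hx.1]; ring
    · rw [mul_x6, inv_x6, h4.2.1, hx.2.1]; ring
    · rw [mul_x5, inv_x5, h4.2.2.1, hx.2.2.1, hx.2.1, h4.1]; simp
    · rw [mul_x3, inv_x3, h4.2.2.2, hx.2.2.2, hx.2.1, hx.2.2.1, h4.1, h4.2.1]; simp [cr]
    · rw [mul_x2, inv_x2, h3, hx.2.2.2, hx.2.1, hx.2.2.1, h4.1, h4.2.1]; simp [tr_zero, sh]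

theorem comm_top_Z4 : ⁅(⊤ : Subgroup (Sy φ)), Z4 φ⁆ = Z3 φ := by
  apply le_antisymm
  · rw [Subgroup.commutator_le]
    intro x _ y hy
    exact comm_mem_Z3 hy
  · have h1 : Z2 φ ≤ ⁅(⊤ : Subgroup (Sy φ)), Z4 φ⁆ := by
      rw [← comm_top_Z3]
      exact Subgroup.commutator_mono le_rfl Z3_le_Z4
    intro x hx
    obtain ⟨a, c, c', hs⟩ := exists_cr_add φ x.x3
    have h2 : ⁅u1 φ a, u5 φ c⁆ * ⁅u1 φ 1, u5 φ c'⁆ ∈ ⁅(⊤ : Subgroup (Sy φ)), Z4 φ⁆ :=
      mul_mem (Subgroup.commutator_mem_commutator trivial (u5_mem _))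
        (Subgroup.commutator_mem_commutator trivial (u5_mem _))
    have h4 : ⁅u1 φ a, u5 φ c⁆ * ⁅u1 φ 1, u5 φ c'⁆ ∈ Z3 φ :=
      mul_mem (comm_mem_Z3 (u5_mem _)) (comm_mem_Z3 (u5_mem _))
    have h3 : (⁅u1 φ a, u5 φ c⁆ * ⁅u1 φ 1, u5 φ c'⁆).x3 = x.x3 := by
      rw [mul_x3, (comm_mem_Z3 (x := u1 φ a) (u5_mem (φ := φ) c)).1,
        (comm_mem_Z3 (x := u1 φ 1) (u5_mem (φ := φ) c')).2.1, comm_x3 (u5_mem _), comm_x3 (u5_mem _),
        cr_zero_left, zero_smul, add_zero, add_zero]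
      exact hs.symm
    set z := ⁅u1 φ a, u5 φ c⁆ * ⁅u1 φ 1, u5 φ c'⁆
    have h5 : x = z * (z⁻¹ * x) := by group
    rw [h5]
    refine mul_mem h2 (h1 ?_)
    refine ⟨?_, ?_, ?_, ?_⟩
    · rw [mul_x1, inv_x1, h4.1, hx.1]; ring
    · rw [mul_x6, inv_x6, h4.2.1, hx.2.1]; ring
    · rw [mul_x5, inv_x5, h4.2.2, hx.2.2, hx.2.1, h4.1]; simp
    · rw [mul_x3, inv_x3, h3, hx.2.1, hx.2.2, h4.1, h4.2.1]; simp [cr]

theorem commutator_top : ⁅(⊤ : Subgroup (Sy φ)), (⊤ : Subgroup (Sy φ))⁆ = Z4 φ := by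
  apply le_antisymm
  · rw [Subgroup.commutator_le]
    intro x _ y _
    exact comm_mem_Z4 x y
  · have h1 : Z3 φ ≤ ⁅(⊤ : Subgroup (Sy φ)), (⊤ : Subgroup (Sy φ))⁆ := by
      rw [← comm_top_Z4]
      exact Subgroup.commutator_mono le_rfl le_top
    intro x hx
    have h2 : ⁅u1 φ x.x5, u6 φ 1⁆ ∈ ⁅(⊤ : Subgroup (Sy φ)), (⊤ : Subgroup (Sy φ))⁆ :=
      Subgroup.commutator_mem_commutator trivial trivial
    have h3 : (⁅u1 φ x.x5, u6 φ 1⁆).x5 = x.x5 := by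
      rw [comm_x5]
      simp [u1, u6]
    have h4 := comm_mem_Z4 (u1 φ x.x5) (u6 φ 1)
    set z := ⁅u1 φ x.x5, u6 φ 1⁆
    have h5 : x = z * (z⁻¹ * x) := by group
    rw [h5]
    refine mul_mem h2 (h1 ?_)
    refine ⟨?_, ?_, ?_⟩
    · rw [mul_x1, inv_x1, h4.1, hx.1]; ring
    · rw [mul_x6, inv_x6, h4.2, hx.2]; ring
    · rw [mul_x5, inv_x5, h3, hx.2, h4.1]; simp

theorem commutator_eq : commutator (Sy φ) = Z4 φ := commutator_top

end Sy

end Cfsg.Agent.H765.D3
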