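import Cfsg.Agent.H765.D3.Sub

/-!
# S5261: the universal property of `Sy φ`

`Rels φ G`: root homomorphisms `v1, …, v6` into a group `G` with the relations of `Sy φ`; `Rels.hom : Sy φ →* G`.
-/

set_option autoImplicit false
set_option linter.unusedSectionVars false
set_option linter.unusedSimpArgs false

namespace Cfsg.Agent.H765.D3

open Cfsg.Agent.Hexagon.Pos
open Cfsg.Agent.Hex.Defs (sh cr nm tr)
open scoped commutatorElement

variable {F K : Type*} [Field F] [Field K] [Algebra F K]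

/-- Root homomorphisms with the relations of `Q1` -/
structure Rels0 (φ : K ≃ₐ[F] K) (G : Type*) [Group G] where
  v2 : F → G
  v3 : K → G
  v4 : F → G
  v5 : K → G
  v6 : F → G
  add2 : ∀ s t, v2 (s + t) = v2 s * v2 t
  add3 : ∀ s t, v3 (s + t) = v3 s * v3 t
  add4 : ∀ s t, v4 (s + t) = v4 s * v4 t
  add5 : ∀ s t, v5 (s + t) = v5 s * v5 t
  add6 : ∀ s t, v6 (s + t) = v6 s * v6 t
  k56 : ∀ c u, v5 c * v6 u = v6 u * v5 c
  k36 : ∀ b u, v3 b * v6 u = v6 u * v3 b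
  k26 : ∀ t u, v2 t * v6 u = v6 u * v2 t * v4 (-(t * u))
  k46 : ∀ w u, v4 w * v6 u = v6 u * v4 w
  k35 : ∀ b c, v3 b * v5 c = v5 c * v3 b * v4 (tr φ (b * c))
  k25 : ∀ t c, v2 t * v5 c = v5 c * v2 t
  k45 : ∀ w c, v4 w * v5 c = v5 c * v4 w
  k23 : ∀ t b, v2 t * v3 b = v3 b * v2 t
  k34 : ∀ w b, v4 w * v3 b = v3 b * v4 w
  k24 : ∀ w t, v4 w * v2 t = v2 t * v4 w

/-- Root homomorphisms with the relations of `Sy φ` -/
structure Rels (φ : K ≃ₐ[F] K) (G : Type*) [Group G] extends Rels0 φ G where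
  v1 : K → G
  add1 : ∀ s t, v1 (s + t) = v1 s * v1 t
  k16 : ∀ a u, v1 a * v6 u = v6 u * v5 (u • a) * v3 (u • sh φ a) * v2 (u * nm φ a) * v4 (u ^ 2 * nm φ a) * v1 a
  k15 : ∀ a c, v1 a * v5 c = v5 c * v3 (cr φ a c) * v2 (tr φ (sh φ a * c)) * v4 (tr φ (a * sh φ c)) * v1 a
  k13 : ∀ a b, v1 a * v3 b = v3 b * v2 (tr φ (a * b)) * v1 a
  k12 : ∀ a t, v1 a * v2 t = v2 t * v1 a
  k14 : ∀ a w, v1 a * v4 w = v4 w * v1 a

namespace Rels0

variable {φ : K ≃ₐ[F] K} {G : Type*} [Group G] (R : Rels0 φ G)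

theorem as2 (s t : F) (g : G) : R.v2 s * (R.v2 t * g) = R.v2 (s + t) * g := by rw [R.add2, mul_assoc]
theorem as3 (s t : K) (g : G) : R.v3 s * (R.v3 t * g) = R.v3 (s + t) * g := by rw [R.add3, mul_assoc]
theorem as4 (s t : F) (g : G) : R.v4 s * (R.v4 t * g) = R.v4 (s + t) * g := by rw [R.add4, mul_assoc]
theorem as5 (s t : K) (g : G) : R.v5 s * (R.v5 t * g) = R.v5 (s + t) * g := by rw [R.add5, mul_assoc]
theorem as6 (s t : F) (g : G) : R.v6 s * (R.v6 t * g) = R.v6 (s + t) * g := by rw [R.add6, mul_assoc]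

theorem a56 (c : K) (u : F) (g : G) : R.v5 c * (R.v6 u * g) = R.v6 u * (R.v5 c * g) := by
  rw [← mul_assoc, R.k56]; simp only [mul_assoc]
theorem a36 (c : K) (u : F) (g : G) : R.v3 c * (R.v6 u * g) = R.v6 u * (R.v3 c * g) := by
  rw [← mul_assoc, R.k36]; simp only [mul_assoc]
theorem a26 (t u : F) (g : G) : R.v2 t * (R.v6 u * g) = R.v6 u * (R.v2 t * (R.v4 (-(t * u)) * g)) := by
  rw [← mul_assoc, R.k26]; simp only [mul_assoc]
theorem a46 (t u : F) (g : G) : R.v4 t * (R.v6 u * g) = R.v6 u * (R.v4 t * g) := by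
  rw [← mul_assoc, R.k46]; simp only [mul_assoc]
theorem a35 (b c : K) (g : G) : R.v3 b * (R.v5 c * g) = R.v5 c * (R.v3 b * (R.v4 (tr φ (b * c)) * g)) := by
  rw [← mul_assoc, R.k35]; simp only [mul_assoc]
theorem a25 (t : F) (c : K) (g : G) : R.v2 t * (R.v5 c * g) = R.v5 c * (R.v2 t * g) := by
  rw [← mul_assoc, R.k25]; simp only [mul_assoc]
theorem a45 (t : F) (c : K) (g : G) : R.v4 t * (R.v5 c * g) = R.v5 c * (R.v4 t * g) := by
  rw [← mul_assoc, R.k45]; simp only [mul_assoc]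
theorem a23 (t : F) (c : K) (g : G) : R.v2 t * (R.v3 c * g) = R.v3 c * (R.v2 t * g) := by
  rw [← mul_assoc, R.k23]; simp only [mul_assoc]
theorem a34 (t : F) (c : K) (g : G) : R.v4 t * (R.v3 c * g) = R.v3 c * (R.v4 t * g) := by
  rw [← mul_assoc, R.k34]; simp only [mul_assoc]
theorem a24 (t u : F) (g : G) : R.v4 t * (R.v2 u * g) = R.v2 u * (R.v4 t * g) := by
  rw [← mul_assoc, R.k24]; simp only [mul_assoc]

end Rels0

namespace Rels

variable {φ : K ≃ₐ[F] K} {G : Type*} [Group G] (R : Rels φ G)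

theorem as1 (s t : K) (g : G) : R.v1 s * (R.v1 t * g) = R.v1 (s + t) * g := by rw [R.add1, mul_assoc]

theorem a16 (a : K) (u : F) (g : G) : R.v1 a * (R.v6 u * g) = R.v6 u * (R.v5 (u • a) * (R.v3 (u • sh φ a) *
    (R.v2 (u * nm φ a) * (R.v4 (u ^ 2 * nm φ a) * (R.v1 a * g))))) := by
  rw [← mul_assoc, R.k16]; simp only [mul_assoc]

theorem a15 (a c : K) (g : G) : R.v1 a * (R.v5 c * g) = R.v5 c * (R.v3 (cr φ a c) *
    (R.v2 (tr φ (sh φ a * c)) * (R.v4 (tr φ (a * sh φ c)) * (R.v1 a * g)))) := by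
  rw [← mul_assoc, R.k15]; simp only [mul_assoc]

theorem a13 (a b : K) (g : G) : R.v1 a * (R.v3 b * g) = R.v3 b * (R.v2 (tr φ (a * b)) * (R.v1 a * g)) := by
  rw [← mul_assoc, R.k13]; simp only [mul_assoc]

theorem a12 (a : K) (t : F) (g : G) : R.v1 a * (R.v2 t * g) = R.v2 t * (R.v1 a * g) := by
  rw [← mul_assoc, R.k12]; simp only [mul_assoc]
theorem a14 (a : K) (t : F) (g : G) : R.v1 a * (R.v4 t * g) = R.v4 t * (R.v1 a * g) := by
  rw [← mul_assoc, R.k14]; simp only [mul_assoc]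
/-- the image of an element -/
def toFun (x : Sy φ) : G := R.v6 x.x6 * R.v5 x.x5 * R.v3 x.x3 * R.v2 x.x2 * R.v4 x.x4 * R.v1 x.x1

variable [Cub φ]

omit [Cub φ] in
theorem word_congr {a a' c c' b b' : K} {u u' t t' w w' : F} (h6 : u = u') (h5 : c = c') (h3 : b = b')
    (h2 : t = t') (h4 : w = w') (h1 : a = a') :
    R.v6 u * (R.v5 c * (R.v3 b * (R.v2 t * (R.v4 w * (R.v1 a * 1))))) =
      R.v6 u' * (R.v5 c' * (R.v3 b' * (R.v2 t' * (R.v4 w' * (R.v1 a' * 1))))) := by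
  rw [h6, h5, h3, h2, h4, h1]

theorem toFun_mul (x y : Sy φ) : R.toFun (x * y) = R.toFun x * R.toFun y := by
  have h : R.toFun x * R.toFun y * 1 = R.toFun (x * y) * 1 := by
    simp only [toFun, mul_assoc]
    simp only [R.as1, R.as2, R.as3, R.as4, R.as5, R.as6, R.a16, R.a15, R.a13, R.a12, R.a14, R.a56, R.a36, R.a26,
      R.a46, R.a35, R.a25, R.a45, R.a23, R.a34, R.a24]
    simp only [Sy.mul_def]
    apply R.word_congr
    · ring
    · cub
    · cub
    · apply (algebraMap F K).injective; cub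
    · apply (algebraMap F K).injective; cub
    · ring
  rw [mul_one, mul_one] at h
  exact h.symm

/-- **The universal property** -/
noncomputable def hom : Sy φ →* G := MonoidHom.mk' R.toFun R.toFun_mul

omit [Cub φ] in
theorem v1_zero : R.v1 0 = 1 := by
  have := R.add1 0 0
  rw [add_zero] at this
  exact left_eq_mul.1 this
omit [Cub φ] in
theorem v2_zero : R.v2 0 = 1 := by
  have := R.add2 0 0
  rw [add_zero] at this
  exact left_eq_mul.1 this
omit [Cub φ] in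
theorem v3_zero : R.v3 0 = 1 := by
  have := R.add3 0 0
  rw [add_zero] at this
  exact left_eq_mul.1 this
omit [Cub φ] in
theorem v4_zero : R.v4 0 = 1 := by
  have := R.add4 0 0
  rw [add_zero] at this
  exact left_eq_mul.1 this
omit [Cub φ] in
theorem v5_zero : R.v5 0 = 1 := by
  have := R.add5 0 0
  rw [add_zero] at this
  exact left_eq_mul.1 this
omit [Cub φ] in
theorem v6_zero : R.v6 0 = 1 := by
  have := R.add6 0 0
  rw [add_zero] at this
  exact left_eq_mul.1 this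

theorem hom_apply (x : Sy φ) :
    R.hom x = R.v6 x.x6 * R.v5 x.x5 * R.v3 x.x3 * R.v2 x.x2 * R.v4 x.x4 * R.v1 x.x1 := rfl

theorem hom_u1 (a : K) : R.hom (Sy.u1 φ a) = R.v1 a := by
  simp [hom_apply, Sy.u1, v2_zero, v3_zero, v4_zero, v5_zero, v6_zero]
theorem hom_u2 (a : F) : R.hom (Sy.u2 φ a) = R.v2 a := by
  simp [hom_apply, Sy.u2, v1_zero, v3_zero, v4_zero, v5_zero, v6_zero]
theorem hom_u3 (a : K) : R.hom (Sy.u3 φ a) = R.v3 a := by
  simp [hom_apply, Sy.u3, v2_zero, v1_zero, v4_zero, v5_zero, v6_zero]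
theorem hom_u4 (a : F) : R.hom (Sy.u4 φ a) = R.v4 a := by
  simp [hom_apply, Sy.u4, v2_zero, v3_zero, v1_zero, v5_zero, v6_zero]
theorem hom_u5 (a : K) : R.hom (Sy.u5 φ a) = R.v5 a := by
  simp [hom_apply, Sy.u5, v2_zero, v3_zero, v4_zero, v1_zero, v6_zero]
theorem hom_u6 (a : F) : R.hom (Sy.u6 φ a) = R.v6 a := by
  simp [hom_apply, Sy.u6, v2_zero, v3_zero, v4_zero, v5_zero, v1_zero]

end Rels

namespace Sy

variable {φ : K ≃ₐ[F] K} [Cub φ]

/-- A normal subgroup meeting the centre `U4` trivially is trivial. -/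
theorem eq_one_of_normal {N : Subgroup (Sy φ)} [hN : N.Normal] (h : ∀ w, u4 φ w ∈ N → w = 0) {x : Sy φ}
    (hx : x ∈ N) : x = 1 := by
  have hc : ∀ y : Sy φ, ∀ x ∈ N, ⁅y, x⁆ ∈ N := fun y x hx => by
    rw [commutatorElement_def]
    exact mul_mem (hN.conj_mem x hx y) (inv_mem hx)
  have hc' : ∀ y : Sy φ, ∀ x ∈ N, ⁅x, y⁆ ∈ N := fun y x hx => by
    rw [← commutatorElement_inv]
    exact inv_mem (hc y x hx)
  have h1 : ∀ x ∈ N, x ∈ Z1 φ → x = 1 := fun x hx hz => by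
    have e := eq_u4 hz
    rw [e] at hx
    rw [e, h _ hx]
    rfl
  have h2 : ∀ x ∈ N, x ∈ Z2 φ → x = 1 := fun x hx hz => by
    apply h1 x hx
    rw [← center_eq, Subgroup.mem_center_iff]
    intro y
    exact commutatorElement_eq_one_iff_mul_comm.1 (h1 _ (hc y x hx) (mem_Z2_iff.1 hz y))
  have h3 : ∀ x ∈ N, x ∈ Z3 φ → x = 1 := fun x hx hz => by
    apply h1 x hx
    rw [← center_eq, Subgroup.mem_center_iff]
    intro y
    exact commutatorElement_eq_one_iff_mul_comm.1 (h2 _ (hc y x hx) (mem_Z3_iff.1 hz y))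
  have h4 : ∀ x ∈ N, x ∈ Z4 φ → x = 1 := fun x hx hz => by
    apply h1 x hx
    rw [← center_eq, Subgroup.mem_center_iff]
    intro y
    exact commutatorElement_eq_one_iff_mul_comm.1 (h3 _ (hc y x hx) (mem_Z4_iff.1 hz y))
  apply h1 x hx
  rw [← center_eq, Subgroup.mem_center_iff]
  intro y
  exact commutatorElement_eq_one_iff_mul_comm.1 (h4 _ (hc y x hx) (comm_mem_Z4 y x))

end Sy

namespace Rels

variable {φ : K ≃ₐ[F] K} [Cub φ] {G : Type*} [Group G] (R : Rels φ G)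

theorem hom_injective (h : ∀ w, R.v4 w = 1 → w = 0) : Function.Injective R.hom := by
  rw [← MonoidHom.ker_eq_bot_iff, eq_bot_iff]
  intro x hx
  rw [Subgroup.mem_bot]
  exact Sy.eq_one_of_normal (N := R.hom.ker) (fun w hw => h w (by
    rw [MonoidHom.mem_ker, hom_u4] at hw
    exact hw)) hx

end Rels

section OfHexPos

variable {φ : K ≃ₐ[F] K} [Cub φ] {G : Type*} [Group G] (P : HexPos φ G)

theorem mc {a b c : G} (h : ⁅a, b⁆ = c) : a * b = c * b * a := by
  rw [← h, commutatorElement_def]; group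

theorem mc1 {a b : G} (h : ⁅a, b⁆ = 1) : a * b = b * a := commutatorElement_eq_one_iff_mul_comm.1 h

/-- the relations of `Q1` from a library package -/
def Rels0.ofHexPos : Rels0 φ G where
  v2 := P.x2
  v3 := P.x3
  v4 := P.x4
  v5 c := P.x5 (-c)
  v6 := P.x6
  add2 := P.add2
  add3 := P.add3
  add4 := P.add4
  add5 s t := by rw [neg_add]; exact P.add5 _ _
  add6 := P.add6
  k56 c u := mc1 (P.c56 _ _)
  k36 b u := mc1 (P.c36 _ _)
  k26 t u := by
    rw [mc (P.r26 t u), mc1 (P.c46 _ _), mul_assoc, mul_assoc, mc1 (P.c24 _ _)]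
  k46 w u := mc1 (P.c46 _ _)
  k35 b c := by
    have e : -tr φ (b * -c) = tr φ (b * c) := by apply (algebraMap F K).injective; cub
    rw [mc (P.r35 b (-c)), e, mc1 (P.c45 _ _), mul_assoc, mul_assoc, mc1 (P.c34 _ _)]
  k25 t c := mc1 (P.c25 _ _)
  k45 w c := mc1 (P.c45 _ _)
  k23 t b := mc1 (P.c23 _ _)
  k34 w b := (mc1 (P.c34 _ _)).symm
  k24 w t := (mc1 (P.c24 _ _)).symm

/-- the relations from a library package -/
def Rels.ofHexPos : Rels φ G where
  toRels0 := Rels0.ofHexPos P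
  v1 := P.x1
  add1 := P.add1
  k12 a t := mc1 (P.c12 _ _)
  k14 a w := mc1 (P.c14 _ _)
  k13 a b := by
    change P.x1 a * P.x3 b = P.x3 b * P.x2 _ * P.x1 a
    rw [mc (P.r13 a b), mc1 (P.c23 _ _)]
  k15 a c := by
    have e1 : P.x2 (-tr φ (sh φ a * -c)) = (Rels0.ofHexPos P).v2 (tr φ (sh φ a * c)) := by
      change P.x2 _ = P.x2 _
      congr 1
      apply (algebraMap F K).injective; cub
    have e2 : P.x3 (-cr φ a (-c)) = (Rels0.ofHexPos P).v3 (cr φ a c) := by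
      change P.x3 _ = P.x3 _
      congr 1
      cub
    have e3 : P.x4 (-tr φ (a * sh φ (-c))) = (Rels0.ofHexPos P).v4 (-tr φ (a * sh φ c)) := by
      change P.x4 _ = P.x4 _
      congr 1
      apply (algebraMap F K).injective; cub
    change P.x1 a * P.x5 (-c) = _
    rw [mc (P.r15 a (-c)), e1, e2, e3]
    change _ * (Rels0.ofHexPos P).v5 c * P.x1 a = _
    set R := Rels0.ofHexPos P
    simp only [mul_assoc]
    simp only [R.as2, R.as3, R.as4, R.as5, R.as6, R.a56, R.a36, R.a26,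
      R.a46, R.a35, R.a25, R.a45, R.a23, R.a34, R.a24]
    congr 4
    refine congrArg R.v4 ?_
    apply (algebraMap F K).injective; cub
  k16 a u := by
    have e1 : P.x5 (-(u • a)) = (Rels0.ofHexPos P).v5 (u • a) := rfl
    change P.x1 a * P.x6 u = _
    rw [mc (P.r16 a u), e1]
    change (Rels0.ofHexPos P).v2 _ * (Rels0.ofHexPos P).v3 _ * (Rels0.ofHexPos P).v4 _ * _ *
      (Rels0.ofHexPos P).v6 u * P.x1 a = _
    set R := Rels0.ofHexPos P
    simp only [mul_assoc]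
    simp only [R.as2, R.as3, R.as4, R.as5, R.as6, R.a56, R.a36, R.a26,
      R.a46, R.a35, R.a25, R.a45, R.a23, R.a34, R.a24]
    congr 5
    refine congrArg R.v4 ?_
    apply (algebraMap F K).injective; cub

end OfHexPos

end Cfsg.Agent.H765.D3
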