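import Cfsg.Agent.S1067
import Cfsg.Agent.Hexagon.TwD4Ident
import Cfsg.Agent.HexRec.FixedField
import Cfsg.Agent.H765.D3.Univ

/-!
# S5261: the Sylow `p`-subgroups of `twistedD4 K (p ^ n)` are isomorphic to `Sy φ`
-/

set_option autoImplicit false
set_option linter.unusedSectionVars false

namespace Cfsg.Agent.H765.D3

open Cfsg.Lie
open Cfsg.Agent.Hexagon.Pos

section Field

variable {K : Type*} [Field K] [Fintype K] {q : ℕ}

/-- the Frobenius map of order three -/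
theorem exists_sigma (hq : IsPrimePow q) (hK : Fintype.card K = q ^ 3) : ∃ σ : K ≃+* K, ∀ x, σ x = x ^ q := by
  obtain ⟨φ, hφ⟩ := Cfsg.Agent.ChevalleyStructure.D4Fixed.exists_frob hq hK
  refine ⟨RingEquiv.ofBijective φ ?_, fun x => hφ x⟩
  exact Finite.injective_iff_bijective.1 φ.injective

theorem sigma_three (hK : Fintype.card K = q ^ 3) {σ : K ≃+* K} (hσ : ∀ x, σ x = x ^ q) (t : K) :
    σ (σ (σ t)) = t := by
  rw [hσ, hσ, hσ, ← pow_mul, ← pow_mul]
  have : q * (q * q) = q ^ 3 := by ring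
  rw [this, ← hK]
  exact FiniteField.pow_card t

theorem sigma_ne (hq : 1 < q) (hK : Fintype.card K = q ^ 3) {σ : K ≃+* K} (hσ : ∀ x, σ x = x ^ q) :
    ∃ t, σ t ≠ t := by
  classical
  by_contra hcon
  push Not at hcon
  have h1 : ∀ t : K, t ^ q = t := fun t => by rw [← hσ]; exact hcon t
  have h2 : (Polynomial.X ^ q - Polynomial.X : Polynomial K) ≠ 0 :=
    FiniteField.X_pow_card_sub_X_ne_zero K hq
  have h3 : (Finset.univ : Finset K).card ≤ q := by
    have h4 : (Finset.univ : Finset K) ⊆ (Polynomial.X ^ q - Polynomial.X : Polynomial K).roots.toFinset := by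
      intro t _
      rw [Multiset.mem_toFinset, Polynomial.mem_roots h2]
      simp [h1]
    refine (Finset.card_le_card h4).trans ((Multiset.toFinset_card_le _).trans ?_)
    refine (Polynomial.card_roots' _).trans ?_
    rw [FiniteField.X_pow_card_sub_X_natDegree_eq K hq]
  rw [Finset.card_univ, hK] at h3
  have : q < q ^ 3 := by
    calc q = q ^ 1 := (pow_one q).symm
      _ < q ^ 3 := Nat.pow_lt_pow_right hq (by norm_num)
  omega

/-- the fixed field and the automorphism over it -/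
theorem exists_cub (hq : IsPrimePow q) (hK : Fintype.card K = q ^ 3) :
    ∃ (F : Subfield K) (φ : K ≃ₐ[F] K), Cub φ ∧ Nat.card F = q ∧ ∀ t, φ t = t ^ q := by
  obtain ⟨σ, hσ⟩ := exists_sigma hq hK
  have h3 := sigma_three hK hσ
  have hne := sigma_ne hq.one_lt hK hσ
  refine ⟨Cfsg.Agent.HexRec.FixedField.Fx σ, Cfsg.Agent.HexRec.FixedField.phi σ, ⟨⟨h3, fun t ht => ?_⟩, hne⟩, ?_,
    hσ⟩
  · exact ⟨⟨t, (Cfsg.Agent.HexRec.FixedField.mem_Fx σ).2 ht⟩, rfl⟩
  · have h1 := Cfsg.Agent.HexRec.FixedField.finrank_eq σ h3 hne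
    have h2 := Module.natCard_eq_pow_finrank (K := Cfsg.Agent.HexRec.FixedField.Fx σ) (V := K)
    rw [h1, Nat.card_eq_fintype_card, hK] at h2
    exact (Nat.pow_left_injective (n := 3) (by norm_num) h2).symm

end Field

/-- an embedding of `Sy φ` in `³D₄(q)` -/
theorem exists_emb {K : Type*} [Field K] [Fintype K] {q : ℕ} (hq : IsPrimePow q) (hK : Fintype.card K = q ^ 3)
    {F : Subfield K} {φ : K ≃ₐ[F] K} [Cub φ] (hφ : ∀ t, φ t = t ^ q) :
    ∃ f : Sy φ →* ↥(twistedD4 K q), Function.Injective f := by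
  obtain ⟨R⟩ := Cfsg.Agent.Hexagon.TwD4Ident.exists_root hq hK (Cub.pair (φ := φ)) hφ
  refine ⟨(Rels.ofHexPos R.P).hom, Rels.hom_injective _ fun w hw => R.P.inj4 w hw⟩

theorem exists_iso' {K : Type*} [Field K] [Fintype K] {p : ℕ} [Fact p.Prime] {n q : ℕ} (hn : 1 ≤ n)
    (hqdef : q = p ^ n) (hK : Fintype.card K = q ^ 3) (T : Sylow p ↥(twistedD4 K q)) :
    ∃ (F : Subfield K) (φ : K ≃ₐ[F] K) (_ : Cub φ), Nat.card F = q ∧ (∀ t, φ t = t ^ q) ∧
      Nonempty (↥(T : Subgroup ↥(twistedD4 K q)) ≃* Sy φ) := by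
  have hp : p.Prime := Fact.out
  have hq : IsPrimePow q := hqdef ▸ hp.isPrimePow.pow (by omega)
  obtain ⟨F, φ, hC, hF, hφ⟩ := exists_cub hq hK
  refine ⟨F, φ, hC, hF, hφ, ?_⟩
  obtain ⟨f, hf⟩ := exists_emb hq hK hφ
  have hq1 : 1 < q := hq.one_lt
  have hcard : Nat.card f.range = q ^ 12 := by
    rw [← Nat.card_congr (MonoidHom.ofInjective hf).toEquiv, Sy.card_eq, hF, Nat.card_eq_fintype_card, hK]
    ring
  have hG := Cfsg.Agent.S1067.result (K := K) hq hK
  have hpq : ∀ m, m ≠ 0 → p ∣ q ^ m := fun m hm => by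
    rw [hqdef, ← pow_mul]
    exact dvd_pow_self p (Nat.mul_ne_zero (by omega) hm)
  have hidx : f.range.index = (q ^ 2 - 1) * (q ^ 6 - 1) * (q ^ 8 + q ^ 4 + 1) := by
    have h1 := f.range.card_mul_index
    rw [hcard, hG, mul_assoc, mul_assoc] at h1
    have h2 := Nat.eq_of_mul_eq_mul_left (pow_pos (by omega) 12) h1
    rw [h2, mul_assoc]
  have hpG : IsPGroup p f.range := IsPGroup.of_card (n := n * 12) (by rw [hcard, hqdef, ← pow_mul])
  have hnd : ¬ p ∣ f.range.index := by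
    rw [hidx]
    intro h
    have hs : ∀ m, m ≠ 0 → ¬ p ∣ q ^ m - 1 := fun m hm h => by
      have h0 := hpq m hm
      have h1 : 1 ≤ q ^ m := Nat.one_le_pow _ _ (by omega)
      have : p ∣ 1 := by
        have := (Nat.dvd_add_right h).1 (by rw [Nat.sub_add_cancel h1]; exact h0)
        exact this
      exact hp.one_lt.ne' (Nat.dvd_one.1 this)
    rcases (Nat.Prime.dvd_mul hp).1 h with h | h
    · rcases (Nat.Prime.dvd_mul hp).1 h with h | h
      · exact hs 2 (by norm_num) h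
      · exact hs 6 (by norm_num) h
    · have h1 : p ∣ 1 := (Nat.dvd_add_right (dvd_add (hpq 8 (by norm_num)) (hpq 4 (by norm_num)))).1 h
      exact hp.one_lt.ne' (Nat.dvd_one.1 h1)
  have e1 : ↥(T : Subgroup ↥(twistedD4 K q)) ≃* f.range := Sylow.equiv T (hpG.toSylow hnd)
  exact ⟨e1.trans (MonoidHom.ofInjective hf).symm⟩

/-- **Coordinates of the Sylow subgroups of `³D₄(q)`** -/
theorem exists_iso {K : Type*} [Field K] [Fintype K] {p : ℕ} [Fact p.Prime] {n : ℕ} (hn : 1 ≤ n)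
    (hK : Fintype.card K = (p ^ n) ^ 3) (T : Sylow p ↥(twistedD4 K (p ^ n))) :
    ∃ (F : Subfield K) (φ : K ≃ₐ[F] K) (_ : Cub φ), Nat.card F = p ^ n ∧ (∀ t, φ t = t ^ (p ^ n)) ∧
      Nonempty (↥(T : Subgroup ↥(twistedD4 K (p ^ n))) ≃* Sy φ) :=
  exists_iso' hn rfl hK T

end Cfsg.Agent.H765.D3
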