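import Cfsg.Agent.HexRec.FixedField
import Cfsg.Agent.H765.D3.Cross

/-!
# S5261: `F`-linear maps `K → K`, extension of automorphisms of `F`
-/

set_option autoImplicit false
set_option linter.unusedSectionVars false

namespace Cfsg.Agent.H765.D3

open Cfsg.Agent.Hexagon.Pos
open Cfsg.Agent.Hex.Defs (sh cr nm tr)

variable {F K : Type*} [Field F] [Field K] [Algebra F K]
variable (φ : K ≃ₐ[F] K) [Cub φ]

section Fin

variable [Finite K]

include φ

theorem card_K : Nat.card K = Nat.card F ^ 3 := by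
  have h3 : ∀ t, (φ : K ≃+* K) ((φ : K ≃+* K) ((φ : K ≃+* K) t)) = t := phi3 φ
  have hne : ∃ t, (φ : K ≃+* K) t ≠ t := Cub.ne (φ := φ)
  have h1 := Cfsg.Agent.HexRec.FixedField.finrank_eq (φ : K ≃+* K) h3 hne
  have h2 := Module.natCard_eq_pow_finrank (K := Cfsg.Agent.HexRec.FixedField.Fx (φ : K ≃+* K)) (V := K)
  rw [h1] at h2
  rw [h2]
  congr 1
  symm
  refine Nat.card_congr (Equiv.ofBijective
    (fun s : F => (⟨algebraMap F K s, (Cfsg.Agent.HexRec.FixedField.mem_Fx _).2 (phi_coe φ s)⟩ :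
      Cfsg.Agent.HexRec.FixedField.Fx (φ : K ≃+* K))) ⟨?_, ?_⟩)
  · intro s t h
    exact (algebraMap F K).injective (congrArg Subtype.val h)
  · rintro ⟨t, ht⟩
    obtain ⟨s, hs⟩ := exists_coe φ (t := t) ((Cfsg.Agent.HexRec.FixedField.mem_Fx _).1 ht)
    exact ⟨s, Subtype.ext hs⟩

theorem finite_F : Finite F := Finite.of_injective (algebraMap F K) (algebraMap F K).injective

theorem finrank_K : Module.finrank F K = 3 := by
  have hF := finite_F φ
  have h1 := card_K φ
  have h2 := Module.natCard_eq_pow_finrank (K := F) (V := K)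
  rw [h1] at h2
  exact (Nat.pow_right_injective Finite.one_lt_card h2).symm

/-- every `F`-linear map `K → K` is `A + B φ + C φ²` -/
theorem exists_lin (f : K →ₗ[F] K) : ∃ A B C : K, ∀ x, f x = A * x + B * φ x + C * φ (φ x) := by
  have hF := finite_F φ
  let M : K × K × K → (K →ₗ[F] K) := fun v =>
    { toFun := fun x => v.1 * x + v.2.1 * φ x + v.2.2 * φ (φ x)
      map_add' := fun x y => by simp only [map_add]; ring
      map_smul' := fun r x => by
        simp only [Algebra.smul_def, map_mul, phi_coe, RingHom.id_apply]; ring }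
  have hM : ∀ v x, M v x = v.1 * x + v.2.1 * φ x + v.2.2 * φ (φ x) := fun _ _ => rfl
  have hinj : Function.Injective M := by
    rintro ⟨a, b, c⟩ ⟨a', b', c'⟩ h
    have h1 := dedekind φ (x := a - a') (y := b - b') (z := c - c') fun s => by
      have := LinearMap.congr_fun h s
      rw [hM, hM] at this
      linear_combination this
    rw [sub_eq_zero, sub_eq_zero, sub_eq_zero] at h1
    obtain ⟨rfl, rfl, rfl⟩ := h1
    rfl
  have hfin : Module.Finite F K := Module.Finite.of_finite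
  have hcard : Nat.card (K →ₗ[F] K) = Nat.card (K × K × K) := by
    have h1 := Module.natCard_eq_pow_finrank (K := F) (V := K →ₗ[F] K)
    rw [h1, Module.finrank_linearMap, finrank_K φ, Nat.card_prod, Nat.card_prod, card_K φ]
    ring
  have : Finite (K →ₗ[F] K) := Nat.finite_of_card_ne_zero (by rw [hcard]; exact Nat.card_pos.ne')
  have hsurj : Function.Surjective M :=
    (Nat.bijective_iff_injective_and_card M).2 ⟨hinj, hcard.symm⟩ |>.2
  obtain ⟨⟨A, B, C⟩, h⟩ := hsurj f
  exact ⟨A, B, C, fun x => by rw [← h, hM]⟩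

end Fin

/-- bilinear Dedekind independence -/
theorem dedekind2 {m : Fin 3 → Fin 3 → K}
    (h : ∀ s t : K,
      (m 0 0 * s + m 1 0 * φ s + m 2 0 * φ (φ s)) * t + (m 0 1 * s + m 1 1 * φ s + m 2 1 * φ (φ s)) * φ t +
        (m 0 2 * s + m 1 2 * φ s + m 2 2 * φ (φ s)) * φ (φ t) = 0) : ∀ i j, m i j = 0 := by
  have h1 : ∀ s, _ := fun s => dedekind φ (h s)
  have a0 := dedekind φ fun s => (h1 s).1
  have a1 := dedekind φ fun s => (h1 s).2.1
  have a2 := dedekind φ fun s => (h1 s).2.2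
  intro i j
  fin_cases i <;> fin_cases j <;> simp [a0, a1, a2]

/-- quadratic independence -/
theorem quad_indep [Finite K] {m0 m1 m2 n0 n1 n2 : K}
    (h : ∀ s : K, m0 * s ^ 2 + m1 * φ s ^ 2 + m2 * φ (φ s) ^ 2 + n0 * (φ s * φ (φ s)) + n1 * (φ (φ s) * s) +
      n2 * (s * φ s) = 0) : m0 = 0 ∧ m1 = 0 ∧ m2 = 0 ∧ n0 = 0 ∧ n1 = 0 ∧ n2 = 0 := by
  have hp := dedekind2 φ (m := ![![2 * m0, n2, n1], ![n2, 2 * m1, n0], ![n1, n0, 2 * m2]]) (fun s t => by
    have e1 := h (s + t)
    have e2 := h s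
    have e3 := h t
    simp only [map_add] at e1
    simp only [Matrix.cons_val_zero, Matrix.cons_val_one, Matrix.cons_val]
    linear_combination e1 - e2 - e3)
  have b0 : 2 * m0 = 0 := hp 0 0
  have b1 : 2 * m1 = 0 := hp 1 1
  have b2 : 2 * m2 = 0 := hp 2 2
  have c0 : n0 = 0 := hp 1 2
  have c1 : n1 = 0 := hp 0 2
  have c2 : n2 = 0 := hp 0 1
  by_cases h2 : (2 : K) = 0
  · have hchar : CharP K 2 := CharTwo.of_one_ne_zero_of_two_eq_zero one_ne_zero h2
    have hbij : Function.Bijective (frobenius K 2) := Finite.injective_iff_bijective.1 (frobenius_inj K 2)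
    have h3 := dedekind φ (x := m0) (y := m1) (z := m2) fun t => by
      obtain ⟨s, hs⟩ := hbij.2 t
      rw [frobenius_def] at hs
      have := h s
      rw [c0, c1, c2] at this
      rw [← hs, map_pow, map_pow]
      linear_combination this
    exact ⟨h3.1, h3.2.1, h3.2.2, c0, c1, c2⟩
  · exact ⟨(mul_eq_zero.1 b0).resolve_left h2, (mul_eq_zero.1 b1).resolve_left h2,
      (mul_eq_zero.1 b2).resolve_left h2, c0, c1, c2⟩

end Cfsg.Agent.H765.D3
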