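import Cfsg.Agent.H765.D3.Auts
import Cfsg.Agent.H765.D3.Lin

/-!
# S5261: the action of `Aut(Sy φ)` on the sections
-/

set_option autoImplicit false
set_option linter.unusedSectionVars false

namespace Cfsg.Agent.H765.D3

open Cfsg.Agent.Hexagon.Pos
open Cfsg.Agent.Hex.Defs (sh cr nm tr)
open scoped commutatorElement

variable {F K : Type*} [Field F] [Field K] [Algebra F K]
variable {φ : K ≃ₐ[F] K} [Cub φ]

/-- every ring automorphism of a finite field is a power map -/
theorem exists_pow_frob {E : Type*} [Field E] [Finite E] {p : ℕ} [Fact p.Prime] [CharP E p] (ρ : E ≃+* E) :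
    ∃ n : ℕ, ∀ x, ρ x = x ^ p ^ n := by
  let _ : Algebra (ZMod p) E := ZMod.algebra E p
  let f : E ≃ₐ[ZMod p] E := AlgEquiv.ofRingEquiv (f := ρ) fun r =>
    RingHom.congr_fun (RingHom.ext_zmod ((ρ : E →+* E).comp (algebraMap (ZMod p) E)) (algebraMap (ZMod p) E)) r
  obtain ⟨n, hn⟩ := (FiniteField.bijective_frobeniusAlgEquivOfAlgebraic_pow (ZMod p) E).2 f
  refine ⟨n.1, fun x => ?_⟩
  have h1 : ρ x = f x := rfl
  rw [h1, ← hn]
  simp only [AlgEquiv.coe_pow, FiniteField.coe_frobeniusAlgEquivOfAlgebraic_iterate, ZMod.card]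

/-- automorphisms of `F` extend to `K` -/
theorem exists_gal [Finite K] (ρ : F ≃+* F) : ∃ g : Gal φ, g.ρ = ρ := by
  have hF := finite_F φ
  obtain ⟨p, hc⟩ := CharP.exists K
  have hp : p.Prime := (CharP.char_is_prime_or_zero K p).resolve_right fun h => by
    subst h
    have := CharP.charP_to_charZero K
    exact not_finite K
  have hpf : Fact p.Prime := ⟨hp⟩
  have hcF : CharP F p := (RingHom.charP_iff (algebraMap F K) (algebraMap F K).injective p).2 hc
  obtain ⟨n, hn⟩ := exists_pow_frob (p := p) ρ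
  have hb : Function.Bijective (iterateFrobenius K p n) :=
    Finite.injective_iff_bijective.1 (iterateFrobenius_inj K p n)
  refine ⟨⟨RingEquiv.ofBijective (iterateFrobenius K p n) hb, ρ, fun s => ?_, fun t => ?_⟩, rfl⟩
  · change _ = iterateFrobenius K p n _
    rw [iterateFrobenius_def, hn, map_pow]
  · change iterateFrobenius K p n _ = φ (iterateFrobenius K p n _)
    rw [iterateFrobenius_def, iterateFrobenius_def, map_pow]

namespace Sy

/-! ### The induced maps -/

section Induced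

variable (α : Sy φ ≃* Sy φ)

theorem x1_eq {x y : Sy φ} (h : x.x1 = y.x1) : (α x).x1 = (α y).x1 := by
  have h1 : x * y⁻¹ ∈ Q1 φ := by
    rw [mem_Q1, mul_x1, inv_x1, h]; ring
  have h2 := map_Q1 α h1
  rw [mem_Q1, map_mul, map_inv, mul_x1, inv_x1] at h2
  linear_combination h2

theorem x6_eq {x y : Sy φ} (h : x.x6 = y.x6) : (α x).x6 = (α y).x6 := by
  have h1 : x * y⁻¹ ∈ Q2 φ := by
    rw [mem_Q2, mul_x6, inv_x6, h]; ring
  have h2 := map_Q2 α h1
  rw [mem_Q2, map_mul, map_inv, mul_x6, inv_x6] at h2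
  linear_combination h2

theorem inv_x5' {x : Sy φ} (hx : x ∈ Z4 φ) : (x⁻¹).x5 = -x.x5 := by
  rw [inv_x5, hx.2, zero_smul, add_zero]

theorem x5_eq {x y : Sy φ} (hx : x ∈ Z4 φ) (hy : y ∈ Z4 φ) (h : x.x5 = y.x5) : (α x).x5 = (α y).x5 := by
  have h1 : x * y⁻¹ ∈ Z3 φ := by
    have := mul_mem hx (inv_mem hy)
    refine ⟨this.1, this.2, ?_⟩
    rw [mul_x5, inv_x5' hy, h, hx.1, smul_zero]; ring
  have h2 := map_Z3 α h1
  have h3 := map_Z4 α hx
  have h4 := map_Z4 α hy
  have h5 := h2.2.2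
  rw [map_mul, map_inv, mul_x5, inv_x5' h4, h3.1, smul_zero] at h5
  linear_combination h5

theorem inv_x3' {x : Sy φ} (hx : x ∈ Z3 φ) : (x⁻¹).x3 = -x.x3 := by
  rw [inv_x3, hx.2.1, hx.2.2, zero_smul, cr_zero_right]; ring

theorem x3_eq {x y : Sy φ} (hx : x ∈ Z3 φ) (hy : y ∈ Z3 φ) (h : x.x3 = y.x3) : (α x).x3 = (α y).x3 := by
  have h1 : x * y⁻¹ ∈ Z2 φ := by
    have := mul_mem hx (inv_mem hy)
    refine ⟨this.1, this.2.1, this.2.2, ?_⟩
    rw [mul_x3, inv_x3' hy, h, hx.1, sh_zero, smul_zero, cr_zero_left]; ring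
  have h2 := map_Z2 α h1
  have h3 := map_Z3 α hx
  have h4 := map_Z3 α hy
  have h5 := h2.2.2.2
  rw [map_mul, map_inv, mul_x3, inv_x3' h4, h3.1, sh_zero, smul_zero, cr_zero_left] at h5
  linear_combination h5

theorem inv_x2' {x : Sy φ} (hx : x ∈ Z2 φ) : (x⁻¹).x2 = -x.x2 := by
  rw [inv_x2, hx.1, hx.2.1, zero_mul, sh_zero, zero_mul, tr_zero]; ring

theorem x2_eq {x y : Sy φ} (hx : x ∈ Z2 φ) (hy : y ∈ Z2 φ) (h : x.x2 = y.x2) : (α x).x2 = (α y).x2 := by
  have h1 : x * y⁻¹ ∈ Z1 φ := by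
    have := mul_mem hx (inv_mem hy)
    refine ⟨this.1, this.2.1, this.2.2.1, this.2.2.2, ?_⟩
    rw [mul_x2, inv_x2' hy, h, hx.1, zero_mul, sh_zero, zero_mul, tr_zero, nm_zero]; ring
  have h2 := map_Z1 α h1
  have h3 := map_Z2 α hx
  have h4 := map_Z2 α hy
  have h5 := h2.2.2.2.2
  rw [map_mul, map_inv, mul_x2, inv_x2' h4, h3.1, zero_mul, sh_zero, zero_mul, tr_zero, nm_zero] at h5
  linear_combination h5

/-- induced map on `S / Q1` -/
noncomputable def al1 (a : K) : K := (α (u1 φ a)).x1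
/-- induced map on `S / Q2` -/
noncomputable def al6 (u : F) : F := (α (u6 φ u)).x6
/-- induced map on `Z4 / Z3` -/
noncomputable def al5 (c : K) : K := (α (u5 φ c)).x5
/-- induced map on `Z3 / Z2` -/
noncomputable def al3 (b : K) : K := (α (u3 φ b)).x3
/-- induced map on `Z2 / Z1` -/
noncomputable def al2 (t : F) : F := (α (u2 φ t)).x2
/-- induced map on `Z1` -/
noncomputable def al4 (w : F) : F := (α (u4 φ w)).x4

theorem apply_x1 (x : Sy φ) : (α x).x1 = al1 α x.x1 := x1_eq α rfl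
theorem apply_x6 (x : Sy φ) : (α x).x6 = al6 α x.x6 := x6_eq α rfl
theorem apply_x5 {x : Sy φ} (hx : x ∈ Z4 φ) : (α x).x5 = al5 α x.x5 := x5_eq α hx (u5_mem _) rfl
theorem apply_x3 {x : Sy φ} (hx : x ∈ Z3 φ) : (α x).x3 = al3 α x.x3 := x3_eq α hx (u3_mem _) rfl
theorem apply_x2 {x : Sy φ} (hx : x ∈ Z2 φ) : (α x).x2 = al2 α x.x2 := x2_eq α hx (u2_mem _) rfl
theorem apply_u4 (w : F) : α (u4 φ w) = u4 φ (al4 α w) := eq_u4 (map_Z1 α (u4_mem w))

theorem al1_add (s t : K) : al1 α (s + t) = al1 α s + al1 α t := by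
  rw [al1, u1_add, map_mul, mul_x1]; rfl
theorem al6_add (s t : F) : al6 α (s + t) = al6 α s + al6 α t := by
  rw [al6, u6_add, map_mul, mul_x6]; rfl
theorem al5_add (s t : K) : al5 α (s + t) = al5 α s + al5 α t := by
  rw [al5, u5_add, map_mul, mul_x5, (map_Z4 α (u5_mem s)).1, smul_zero, add_zero]; rfl
theorem al3_add (s t : K) : al3 α (s + t) = al3 α s + al3 α t := by
  rw [al3, u3_add, map_mul, mul_x3, (map_Z3 α (u3_mem s)).1, sh_zero, smul_zero, cr_zero_left, add_zero,
    add_zero]; rfl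
theorem al2_add (s t : F) : al2 α (s + t) = al2 α s + al2 α t := by
  rw [al2, u2_add, map_mul, mul_x2, (map_Z2 α (u2_mem s)).1, sh_zero, zero_mul, zero_mul, tr_zero, nm_zero,
    mul_zero, add_zero, add_zero, add_zero]; rfl
theorem al4_add (s t : F) : al4 α (s + t) = al4 α s + al4 α t := by
  have := apply_u4 α (s + t)
  rw [u4_add, map_mul, apply_u4, apply_u4, ← u4_add] at this
  exact (congrArg Sy.x4 this).symm

theorem al1_zero : al1 α 0 = 0 := by
  have := al1_add α 0 0
  rw [add_zero] at this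
  exact left_eq_add.1 this
theorem al6_zero : al6 α 0 = 0 := by
  have := al6_add α 0 0
  rw [add_zero] at this
  exact left_eq_add.1 this
theorem al5_zero : al5 α 0 = 0 := by
  have := al5_add α 0 0
  rw [add_zero] at this
  exact left_eq_add.1 this
theorem al3_zero : al3 α 0 = 0 := by
  have := al3_add α 0 0
  rw [add_zero] at this
  exact left_eq_add.1 this
theorem al2_zero : al2 α 0 = 0 := by
  have := al2_add α 0 0
  rw [add_zero] at this
  exact left_eq_add.1 this
theorem al4_zero : al4 α 0 = 0 := by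
  have := al4_add α 0 0
  rw [add_zero] at this
  exact left_eq_add.1 this

theorem al1_symm (a : K) : al1 α.symm (al1 α a) = a :=
  (apply_x1 α.symm (α (u1 φ a))).symm.trans (by rw [MulEquiv.symm_apply_apply]; rfl)
theorem al6_symm (a : F) : al6 α.symm (al6 α a) = a :=
  (apply_x6 α.symm (α (u6 φ a))).symm.trans (by rw [MulEquiv.symm_apply_apply]; rfl)
theorem al5_symm (a : K) : al5 α.symm (al5 α a) = a :=
  (apply_x5 α.symm (map_Z4 α (u5_mem a))).symm.trans (by rw [MulEquiv.symm_apply_apply]; rfl)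
theorem al3_symm (a : K) : al3 α.symm (al3 α a) = a :=
  (apply_x3 α.symm (map_Z3 α (u3_mem a))).symm.trans (by rw [MulEquiv.symm_apply_apply]; rfl)
theorem al2_symm (a : F) : al2 α.symm (al2 α a) = a :=
  (apply_x2 α.symm (map_Z2 α (u2_mem a))).symm.trans (by rw [MulEquiv.symm_apply_apply]; rfl)
theorem al4_symm (a : F) : al4 α.symm (al4 α a) = a := by
  have := apply_u4 α.symm (al4 α a)
  rw [← apply_u4, MulEquiv.symm_apply_apply] at this
  exact (congrArg Sy.x4 this).symm

theorem al1_bij : Function.Bijective (al1 α) :=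
  ⟨Function.LeftInverse.injective (al1_symm α), Function.RightInverse.surjective (g := al1 α.symm) fun a => by
    have := al1_symm α.symm a
    rwa [MulEquiv.symm_symm] at this⟩
theorem al6_bij : Function.Bijective (al6 α) :=
  ⟨Function.LeftInverse.injective (al6_symm α), Function.RightInverse.surjective (g := al6 α.symm) fun a => by
    have := al6_symm α.symm a
    rwa [MulEquiv.symm_symm] at this⟩
theorem al5_bij : Function.Bijective (al5 α) :=
  ⟨Function.LeftInverse.injective (al5_symm α), Function.RightInverse.surjective (g := al5 α.symm) fun a => by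
    have := al5_symm α.symm a
    rwa [MulEquiv.symm_symm] at this⟩
theorem al3_bij : Function.Bijective (al3 α) :=
  ⟨Function.LeftInverse.injective (al3_symm α), Function.RightInverse.surjective (g := al3 α.symm) fun a => by
    have := al3_symm α.symm a
    rwa [MulEquiv.symm_symm] at this⟩
theorem al2_bij : Function.Bijective (al2 α) :=
  ⟨Function.LeftInverse.injective (al2_symm α), Function.RightInverse.surjective (g := al2 α.symm) fun a => by
    have := al2_symm α.symm a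
    rwa [MulEquiv.symm_symm] at this⟩
theorem al4_bij : Function.Bijective (al4 α) :=
  ⟨Function.LeftInverse.injective (al4_symm α), Function.RightInverse.surjective (g := al4 α.symm) fun a => by
    have := al4_symm α.symm a
    rwa [MulEquiv.symm_symm] at this⟩

/-! ### The relations between the induced maps -/

theorem u1_x6 (a : K) : (α (u1 φ a)).x6 = 0 := (map_Q2 α (u1_mem a) :)
theorem u6_x1 (u : F) : (α (u6 φ u)).x1 = 0 := (map_Q1 α (u6_mem u) :)

/-- `[x1, x6] → x5` -/
theorem al5_smul (u : F) (a : K) : al5 α (u • a) = al6 α u • al1 α a := by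
  have h1 := apply_x5 α (comm_mem_Z4 (u1 φ a) (u6 φ u))
  rw [comm_x5, map_commutatorElement, comm_x5, u1_x6, u6_x1, smul_zero, sub_zero] at h1
  have e : ((u6 φ u).x6 • (u1 φ a).x1 - (u1 φ a).x6 • (u6 φ u).x1 : K) = u • a := by
    simp [u1, u6]
  rw [e] at h1
  exact h1.symm

/-- `[x1, x5] → x3` -/
theorem al3_cr (a c : K) : al3 α (cr φ a c) = cr φ (al1 α a) (al5 α c) := by
  have h1 := apply_x3 α (comm_mem_Z3 (x := u1 φ a) (u5_mem (φ := φ) c))
  rw [comm_x3 (u5_mem _), map_commutatorElement, comm_x3 (map_Z4 α (u5_mem _))] at h1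
  exact h1.symm

/-- `[x1, x3] → x2` -/
theorem al2_tr (a b : K) : al2 α (tr φ (a * b)) = tr φ (al1 α a * al3 α b) := by
  have h1 := apply_x2 α (comm_mem_Z2 (x := u1 φ a) (u3_mem (φ := φ) b))
  rw [comm_x2' (u3_mem _), map_commutatorElement, comm_x2' (map_Z3 α (u3_mem _))] at h1
  exact h1.symm

/-- `[x6, x2] → x4` -/
theorem al4_mul (u t : F) : al4 α (u * t) = al6 α u * al2 α t := by
  have h1 := congrArg α (comm_Z2 (x := u6 φ u) (u2_mem (φ := φ) t))
  rw [map_commutatorElement, comm_Z2 (map_Z2 α (u2_mem _)), apply_u4] at h1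
  exact (congrArg Sy.x4 h1).symm

theorem form_u3_u5 (b c : K) : form (u3 φ b) (u5 φ c) = tr φ (b * c) := by
  have e1 : (u3 φ b).x6 = 0 := rfl
  have e2 : (u3 φ b).x2 = 0 := rfl
  have e3 : (u3 φ b).x5 = 0 := rfl
  have e4 : (u3 φ b).x3 = b := rfl
  have e5 : (u5 φ c).x5 = c := rfl
  rw [form, e1, e2, e3, e4, e5, zero_mul, zero_mul, zero_mul, tr_zero, sub_zero, sub_zero, zero_add]

/-- `[x3, x5] → x4` -/
theorem al4_tr (b c : K) : al4 α (tr φ (b * c)) = tr φ (al3 α b * al5 α c) := by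
  have h3 := map_Z3 α (u3_mem (φ := φ) b)
  have h4 := map_Z4 α (u5_mem (φ := φ) c)
  have e1 : form (α (u3 φ b)) (α (u5 φ c)) = tr φ (al3 α b * al5 α c) := by
    rw [form, h3.2.1, h3.2.2, h4.2, zero_mul, mul_zero, zero_mul, tr_zero, sub_zero, sub_zero, zero_add, al3, al5]
  have h1 := congrArg α (comm_Q1 (x := u3 φ b) (y := u5 φ c) (u3_mem (φ := φ) b).1 (u5_mem (φ := φ) c).1)
  rw [map_commutatorElement, comm_Q1 h3.1 h4.1, apply_u4, e1, form_u3_u5] at h1
  exact (congrArg Sy.x4 h1).symm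

end Induced

end Sy

end Cfsg.Agent.H765.D3
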