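import Cfsg.Agent.H765.D3.Sub

/-!
# S5261: the standard automorphisms of `Sy φ` (torus `Kˣ × Fˣ` and field automorphisms)

`Semi φ`: `l : Kˣ`, `m : Fˣ`, `τ : K ≃+* K` commuting with `φ`, `ρ = τ|F`; `Semi.aut : Sy φ ≃* Sy φ`,
`x1 ↦ l τ(x1)`, `x6 ↦ m ρ(x6)`, `x5 ↦ m l τ(x5)`, `x3 ↦ m l^# τ(x3)`, `x2 ↦ m N(l) ρ(x2)`, `x4 ↦ m² N(l) ρ(x4)`.
-/

set_option autoImplicit false
set_option linter.unusedSectionVars false

namespace Cfsg.Agent.H765.D3

open Cfsg.Agent.Hexagon.Pos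
open Cfsg.Agent.Hex.Defs (sh cr nm tr)
open scoped commutatorElement

variable {F K : Type*} [Field F] [Field K] [Algebra F K]

/-- a field automorphism of `K` compatible with `φ` and `F` -/
@[ext] structure Gal (φ : K ≃ₐ[F] K) where
  τ : K ≃+* K
  ρ : F ≃+* F
  res : ∀ s, algebraMap F K (ρ s) = τ (algebraMap F K s)
  comm : ∀ t, τ (φ t) = φ (τ t)

variable {φ : K ≃ₐ[F] K}

namespace Gal

/-- identity -/
def id (φ : K ≃ₐ[F] K) : Gal φ where
  τ := RingEquiv.refl K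
  ρ := RingEquiv.refl F
  res _ := rfl
  comm _ := rfl

/-- inverse -/
def symm (g : Gal φ) : Gal φ where
  τ := g.τ.symm
  ρ := g.ρ.symm
  res s := by
    apply g.τ.injective
    rw [← g.res, RingEquiv.apply_symm_apply, RingEquiv.apply_symm_apply]
  comm t := by
    apply g.τ.injective
    rw [g.comm, RingEquiv.apply_symm_apply, RingEquiv.apply_symm_apply]

/-- composition -/
def trans (g h : Gal φ) : Gal φ where
  τ := g.τ.trans h.τ
  ρ := g.ρ.trans h.ρ
  res s := by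
    rw [RingEquiv.trans_apply, RingEquiv.trans_apply, h.res, g.res]
  comm t := by
    rw [RingEquiv.trans_apply, RingEquiv.trans_apply, g.comm, h.comm]

/-- `φ` itself -/
def ofPhi (φ : K ≃ₐ[F] K) : Gal φ where
  τ := φ
  ρ := RingEquiv.refl F
  res s := (φ.commutes s).symm
  comm _ := rfl

end Gal

variable [Cub φ]

theorem rho_tr (g : Gal φ) (t : K) : g.ρ (tr φ t) = tr φ (g.τ t) := by
  apply (algebraMap F K).injective
  rw [g.res, coe_tr, coe_tr, map_add, map_add, g.comm, g.comm, g.comm]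

theorem rho_nm (g : Gal φ) (t : K) : g.ρ (nm φ t) = nm φ (g.τ t) := by
  apply (algebraMap F K).injective
  rw [g.res, coe_nm, coe_nm, map_mul, map_mul, g.comm, g.comm, g.comm]

theorem tau_sh (g : Gal φ) (t : K) : g.τ (sh φ t) = sh φ (g.τ t) := by
  rw [sh, sh, map_mul, g.comm, g.comm, g.comm]

theorem tau_cr (g : Gal φ) (s t : K) : g.τ (cr φ s t) = cr φ (g.τ s) (g.τ t) := by
  simp only [cr, map_add, map_mul, g.comm]

theorem tau_smul (g : Gal φ) (s : F) (t : K) : g.τ (s • t) = g.ρ s • g.τ t := by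
  rw [Algebra.smul_def, Algebra.smul_def, map_mul, g.res]

/-- standard automorphism on coordinates -/
noncomputable def stdFun (l : K) (m : F) (g : Gal φ) (x : Sy φ) : Sy φ where
  x1 := l * g.τ x.x1
  x6 := m * g.ρ x.x6
  x5 := m • (l * g.τ x.x5)
  x3 := m • (sh φ l * g.τ x.x3)
  x2 := m * nm φ l * g.ρ x.x2
  x4 := m ^ 2 * nm φ l * g.ρ x.x4

theorem stdFun_mul (l : K) (m : F) (g : Gal φ) (x y : Sy φ) :
    stdFun l m g (x * y) = stdFun l m g x * stdFun l m g y := by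
  ext
  · simp only [stdFun, Sy.mul_def, map_add]; ring
  · simp only [stdFun, Sy.mul_def, map_add]; ring
  · simp only [stdFun, Sy.mul_def, map_add, tau_smul]; cub
  · simp only [stdFun, Sy.mul_def, map_add, tau_smul, tau_cr, tau_sh]; cub
  · simp only [stdFun, Sy.mul_def, map_add, map_mul, rho_tr, rho_nm, tau_sh]
    apply (algebraMap F K).injective
    cub
  · simp only [stdFun, Sy.mul_def, map_add, map_sub, map_mul, map_pow, rho_tr, rho_nm, tau_sh, tau_smul]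
    apply (algebraMap F K).injective
    cub

theorem stdFun_comp (l l' : K) (m m' : F) (g g' : Gal φ) (x : Sy φ) :
    stdFun l m g (stdFun l' m' g' x) = stdFun (l * g.τ l') (m * g.ρ m') (g'.trans g) x := by
  ext
  · simp only [stdFun, Gal.trans, RingEquiv.trans_apply, map_mul]; ring
  · simp only [stdFun, Gal.trans, RingEquiv.trans_apply, map_mul]; ring
  · simp only [stdFun, Gal.trans, RingEquiv.trans_apply, map_mul, tau_smul]; cub
  · simp only [stdFun, Gal.trans, RingEquiv.trans_apply, map_mul, tau_smul, tau_sh]; cub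
  · simp only [stdFun, Gal.trans, RingEquiv.trans_apply, map_mul, rho_nm, nm_mul]; ring
  · simp only [stdFun, Gal.trans, RingEquiv.trans_apply, map_mul, map_pow, rho_nm, nm_mul]; ring

theorem stdFun_one (g : Gal φ) (h1 : ∀ t, g.τ t = t) (h2 : ∀ t, g.ρ t = t) (x : Sy φ) :
    stdFun 1 1 g x = x := by
  ext
  · simp only [stdFun, h1]; ring
  · simp only [stdFun, h2]; ring
  · simp only [stdFun, h1]; cub
  · simp only [stdFun, h1]; cub
  · simp only [stdFun, h2, nm_one]; ring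
  · simp only [stdFun, h2, nm_one]; ring

/-- **Standard automorphisms** -/
noncomputable def stdAut (l : Kˣ) (m : Fˣ) (g : Gal φ) : Sy φ ≃* Sy φ where
  toFun := stdFun (l : K) (m : F) g
  invFun := stdFun (g.τ.symm (l⁻¹ : Kˣ)) (g.ρ.symm (m⁻¹ : Fˣ)) g.symm
  left_inv x := by
    rw [stdFun_comp]
    have h1 : g.τ.symm ((l⁻¹ : Kˣ) : K) * g.symm.τ (l : K) = 1 := by
      change g.τ.symm ((l⁻¹ : Kˣ) : K) * g.τ.symm (l : K) = 1
      rw [← map_mul, Units.inv_mul, map_one]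
    have h2 : g.ρ.symm ((m⁻¹ : Fˣ) : F) * g.symm.ρ (m : F) = 1 := by
      change g.ρ.symm ((m⁻¹ : Fˣ) : F) * g.ρ.symm (m : F) = 1
      rw [← map_mul, Units.inv_mul, map_one]
    rw [h1, h2]
    exact stdFun_one _ (fun t => g.τ.symm_apply_apply t) (fun t => g.ρ.symm_apply_apply t) x
  right_inv x := by
    rw [stdFun_comp]
    have h1 : (l : K) * g.τ (g.τ.symm ((l⁻¹ : Kˣ) : K)) = 1 := by
      rw [RingEquiv.apply_symm_apply, Units.mul_inv]
    have h2 : (m : F) * g.ρ (g.ρ.symm ((m⁻¹ : Fˣ) : F)) = 1 := by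
      rw [RingEquiv.apply_symm_apply, Units.mul_inv]
    rw [h1, h2]
    exact stdFun_one _ (fun t => g.τ.apply_symm_apply t) (fun t => g.ρ.apply_symm_apply t) x
  map_mul' := stdFun_mul (l : K) (m : F) g

theorem stdAut_apply (l : Kˣ) (m : Fˣ) (g : Gal φ) (x : Sy φ) : stdAut l m g x = stdFun (l : K) (m : F) g x := rfl

theorem stdAut_x1 (l : Kˣ) (m : Fˣ) (g : Gal φ) (x : Sy φ) : (stdAut l m g x).x1 = l * g.τ x.x1 := rfl
theorem stdAut_x6 (l : Kˣ) (m : Fˣ) (g : Gal φ) (x : Sy φ) : (stdAut l m g x).x6 = m * g.ρ x.x6 := rfl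
theorem stdAut_x5 (l : Kˣ) (m : Fˣ) (g : Gal φ) (x : Sy φ) :
    (stdAut l m g x).x5 = (m : F) • ((l : K) * g.τ x.x5) := rfl
theorem stdAut_x3 (l : Kˣ) (m : Fˣ) (g : Gal φ) (x : Sy φ) :
    (stdAut l m g x).x3 = (m : F) • (sh φ (l : K) * g.τ x.x3) := rfl
theorem stdAut_x2 (l : Kˣ) (m : Fˣ) (g : Gal φ) (x : Sy φ) :
    (stdAut l m g x).x2 = m * nm φ l * g.ρ x.x2 := rfl
theorem stdAut_x4 (l : Kˣ) (m : Fˣ) (g : Gal φ) (x : Sy φ) :
    (stdAut l m g x).x4 = (m : F) ^ 2 * nm φ l * g.ρ x.x4 := rfl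

theorem Gal.id_tau (t : K) : (Gal.id φ).τ t = t := rfl
theorem Gal.id_rho (t : F) : (Gal.id φ).ρ t = t := rfl

/-- the torus -/
noncomputable def tor (φ : K ≃ₐ[F] K) [Cub φ] : Kˣ × Fˣ →* MulAut (Sy φ) where
  toFun v := stdAut v.1 v.2 (Gal.id φ)
  map_one' := by
    ext1 x
    exact stdFun_one _ (fun t => rfl) (fun t => rfl) x
  map_mul' v w := by
    ext1 x
    rw [MulAut.mul_apply, stdAut_apply, stdAut_apply, stdAut_apply, stdFun_comp]
    congr 1

theorem tor_apply (v : Kˣ × Fˣ) (x : Sy φ) : tor φ v x = stdFun (v.1 : K) (v.2 : F) (Gal.id φ) x := rfl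

/-- field automorphisms -/
noncomputable def galAut (g : Gal φ) : Sy φ ≃* Sy φ := stdAut 1 1 g

end Cfsg.Agent.H765.D3
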