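import Cfsg.Agent.Hexagon.Pos

/-!
# S5261: cubic extension `K / F` with `φ` of order three: identities for trace, norm, `t^#` and `s × t`
-/

set_option autoImplicit false
set_option linter.unusedSectionVars false

namespace Cfsg.Agent.H765.D3

open Cfsg.Agent.Hexagon.Pos
open Cfsg.Agent.Hex.Defs (sh cr nm tr)

variable {F K : Type*} [Field F] [Field K] [Algebra F K]

/-- `φ` is an automorphism of order three of `K` and `F` is its fixed field. -/
class Cub (φ : K ≃ₐ[F] K) : Prop where
  pair : Pair φ
  ne : ∃ t : K, φ t ≠ t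

variable (φ : K ≃ₐ[F] K) [Cub φ]

theorem phi3 (t : K) : φ (φ (φ t)) = t := (Cub.pair (φ := φ)).three t

theorem coe_tr (t : K) : algebraMap F K (tr φ t) = t + φ t + φ (φ t) := algebraMap_tr Cub.pair t

theorem coe_nm (t : K) : algebraMap F K (nm φ t) = t * φ t * φ (φ t) := algebraMap_nm Cub.pair t

theorem phi_coe (s : F) : φ (algebraMap F K s) = algebraMap F K s := φ.commutes s

theorem exists_coe {t : K} (h : φ t = t) : ∃ s : F, algebraMap F K s = t := (Cub.pair (φ := φ)).fixed t h

/-- the simp set for `F`-valued identities -/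
macro "cub" : tactic => `(tactic|
  (simp only [map_add, map_sub, map_mul, map_neg, map_pow, map_one, map_zero, map_ofNat, map_natCast, coe_tr, coe_nm,
      sh, cr, phi3, phi_coe, Algebra.smul_def]; try ring))

theorem tr_add (s t : K) : tr φ (s + t) = tr φ s + tr φ t := by
  apply (algebraMap F K).injective; cub

theorem tr_neg (t : K) : tr φ (-t) = -tr φ t := by
  apply (algebraMap F K).injective; cub

theorem tr_sub (s t : K) : tr φ (s - t) = tr φ s - tr φ t := by
  apply (algebraMap F K).injective; cub

theorem tr_smul (s : F) (t : K) : tr φ (s • t) = s * tr φ t := by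
  apply (algebraMap F K).injective; cub

theorem tr_zero : tr φ 0 = 0 := by
  apply (algebraMap F K).injective; cub

theorem tr_phi (t : K) : tr φ (φ t) = tr φ t := by
  apply (algebraMap F K).injective; cub

theorem nm_mul (s t : K) : nm φ (s * t) = nm φ s * nm φ t := by
  apply (algebraMap F K).injective; cub

theorem nm_zero : nm φ 0 = 0 := by
  apply (algebraMap F K).injective; cub

theorem nm_one : nm φ 1 = 1 := by
  apply (algebraMap F K).injective; cub

theorem nm_neg (t : K) : nm φ (-t) = -nm φ t := by
  apply (algebraMap F K).injective; cub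

theorem nm_smul (s : F) (t : K) : nm φ (s • t) = s ^ 3 * nm φ t := by
  apply (algebraMap F K).injective; cub

theorem nm_add (s t : K) : nm φ (s + t) = nm φ s + tr φ (sh φ s * t) + tr φ (s * sh φ t) + nm φ t := by
  apply (algebraMap F K).injective; cub

theorem tr_sh_mul (t : K) : tr φ (sh φ t * t) = 3 * nm φ t := by
  apply (algebraMap F K).injective; cub

theorem sh_add (s t : K) : sh φ (s + t) = sh φ s + cr φ s t + sh φ t := by cub

theorem sh_smul (s : F) (t : K) : sh φ (s • t) = s ^ 2 • sh φ t := by cub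

theorem sh_mul (s t : K) : sh φ (s * t) = sh φ s * sh φ t := by cub

theorem sh_zero : sh φ 0 = 0 := by cub

theorem sh_neg (t : K) : sh φ (-t) = sh φ t := by cub

theorem sh_mul_self (t : K) : sh φ t * t = algebraMap F K (nm φ t) := by cub

theorem sh_sh (t : K) : sh φ (sh φ t) = nm φ t • t := by cub

theorem cr_comm (s t : K) : cr φ s t = cr φ t s := by cub

theorem cr_add_left (s s' t : K) : cr φ (s + s') t = cr φ s t + cr φ s' t := by cub

theorem cr_add_right (s t t' : K) : cr φ s (t + t') = cr φ s t + cr φ s t' := by cub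

theorem cr_smul_left (u : F) (s t : K) : cr φ (u • s) t = u • cr φ s t := by cub

theorem cr_smul_right (u : F) (s t : K) : cr φ s (u • t) = u • cr φ s t := by cub

theorem cr_neg_left (s t : K) : cr φ (-s) t = -cr φ s t := by cub

theorem cr_neg_right (s t : K) : cr φ s (-t) = -cr φ s t := by cub

theorem cr_zero_left (t : K) : cr φ 0 t = 0 := by cub

theorem cr_zero_right (t : K) : cr φ t 0 = 0 := by cub

theorem cr_self (t : K) : cr φ t t = 2 * sh φ t := by cub

/-- the trilinear form is symmetric -/
theorem tr_cr (s t r : K) : tr φ (cr φ s t * r) = tr φ (s * cr φ t r) := by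
  apply (algebraMap F K).injective; cub

theorem cr_one_left (t : K) : cr φ 1 t = algebraMap F K (tr φ t) - t := by cub

theorem sh_eq_zero {t : K} : sh φ t = 0 ↔ t = 0 := by
  rw [sh, mul_eq_zero]
  simp

theorem nm_eq_zero {t : K} : nm φ t = 0 ↔ t = 0 := by
  constructor
  · intro h
    have := coe_nm φ t
    rw [h, map_zero] at this
    have h2 : t * φ t * φ (φ t) = 0 := this.symm
    simpa [mul_eq_zero] using h2
  · rintro rfl
    exact nm_zero φ

/-- the trace form is nondegenerate -/
theorem exists_tr_ne : ∃ s : K, tr φ s ≠ 0 := by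
  by_contra hcon
  push Not at hcon
  have h0 : ∀ s : K, s + φ s + φ (φ s) = 0 := fun s => by
    rw [← coe_tr, hcon, map_zero]
  obtain ⟨θ, hθ⟩ := Cub.ne (φ := φ)
  have h1 := h0 1
  rw [map_one, map_one] at h1
  have h2 := h0 θ
  have h3 : ∀ s : K, (φ θ - θ) * (φ s - φ (φ s)) = 0 := fun s => by
    have e1 := h0 (s * θ)
    rw [map_mul, map_mul] at e1
    have e2 := h0 s
    linear_combination e1 - θ * e2 - φ (φ s) * h2 + φ (φ s) * θ * h1
  apply hθ
  have h4 := (mul_eq_zero.1 (h3 θ)).resolve_left (sub_ne_zero.2 hθ)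
  have h5 : φ θ = φ (φ θ) := sub_eq_zero.1 h4
  exact (φ.injective h5).symm

theorem tr_nondeg {a : K} (h : ∀ t : K, tr φ (a * t) = 0) : a = 0 := by
  by_contra ha
  obtain ⟨s, hs⟩ := exists_tr_ne φ
  exact hs (by rw [← h (a⁻¹ * s), mul_inv_cancel_left₀ ha])

end Cfsg.Agent.H765.D3
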