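import Cfsg.Agent.H765.D3.Cub

/-!
# S5261: the concrete Sylow `p`-subgroup of `³D₄(q)`

`Sy φ`: tuples with coordinates `x1 x3 x5 : K`, `x2 x4 x6 : F`, standing for
`u6 x6 * u5 x5 * u3 x3 * u2 x2 * u4 x4 * u1 x1`, with explicit multiplication.  Hexagon labels of the roots:
`u1` short simple root `α`, `u6` long simple root `β`, `u5 : α+β`, `u3 : 2α+β`, `u2 : 3α+β`, `u4 : 3α+2β`.
Subgroups `Z1 = U4 < Z2 = U2 U4 < Z3 = U3 U2 U4 < Z4 = U5 U3 U2 U4`, `Q1 = U6 Z4`, `Q2 = U1 Z4`.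
(Compared with the library structure `HexPos`: `u5 c = x5 (-c)`, the other maps are the same.)
-/

set_option autoImplicit false
set_option linter.unusedSectionVars false

namespace Cfsg.Agent.H765.D3

open Cfsg.Agent.Hexagon.Pos
open Cfsg.Agent.Hex.Defs (sh cr nm tr)
open scoped commutatorElement

variable {F K : Type*} [Field F] [Field K] [Algebra F K]

/-- The set of tuples. -/
@[ext] structure Sy (φ : K ≃ₐ[F] K) where
  x1 : K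
  x6 : F
  x5 : K
  x3 : K
  x2 : F
  x4 : F

namespace Sy

variable {φ : K ≃ₐ[F] K}

noncomputable instance : Mul (Sy φ) := ⟨fun x y =>
  { x1 := x.x1 + y.x1
    x6 := x.x6 + y.x6
    x5 := x.x5 + y.x5 + y.x6 • x.x1
    x3 := x.x3 + y.x3 + cr φ x.x1 y.x5 + y.x6 • sh φ x.x1
    x2 := x.x2 + y.x2 + tr φ (x.x1 * y.x3) + tr φ (sh φ x.x1 * y.x5) + y.x6 * nm φ x.x1
    x4 := x.x4 + y.x4 + y.x6 ^ 2 * nm φ x.x1 + tr φ (x.x1 * sh φ y.x5) + y.x6 * tr φ (sh φ x.x1 * y.x5) - x.x2 * y.x6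
      + tr φ (x.x3 * (y.x5 + y.x6 • x.x1)) }⟩

instance : One (Sy φ) := ⟨{ x1 := 0, x6 := 0, x5 := 0, x3 := 0, x2 := 0, x4 := 0 }⟩

noncomputable instance : Inv (Sy φ) := ⟨fun x =>
  { x1 := -x.x1
    x6 := -x.x6
    x5 := -x.x5 + x.x6 • x.x1
    x3 := -x.x3 + cr φ x.x1 x.x5 - x.x6 • sh φ x.x1
    x2 := -x.x2 + tr φ (x.x1 * x.x3) - tr φ (sh φ x.x1 * x.x5) + x.x6 * nm φ x.x1
    x4 := -x.x4 + x.x6 ^ 2 * nm φ x.x1 + tr φ (x.x1 * sh φ x.x5) - x.x6 * tr φ (sh φ x.x1 * x.x5)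
      + (-x.x2 + tr φ (x.x1 * x.x3) - tr φ (sh φ x.x1 * x.x5) + x.x6 * nm φ x.x1) * x.x6
      - tr φ ((-x.x3 + cr φ x.x1 x.x5 - x.x6 • sh φ x.x1) * (x.x5 - x.x6 • x.x1)) }⟩

theorem mul_x1 (x y : Sy φ) : (x * y).x1 = x.x1 + y.x1 := rfl
theorem mul_x6 (x y : Sy φ) : (x * y).x6 = x.x6 + y.x6 := rfl
theorem mul_x5 (x y : Sy φ) : (x * y).x5 = x.x5 + y.x5 + y.x6 • x.x1 := rfl
theorem mul_x3 (x y : Sy φ) : (x * y).x3 = x.x3 + y.x3 + cr φ x.x1 y.x5 + y.x6 • sh φ x.x1 := rfl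
theorem mul_x2 (x y : Sy φ) :
    (x * y).x2 = x.x2 + y.x2 + tr φ (x.x1 * y.x3) + tr φ (sh φ x.x1 * y.x5) + y.x6 * nm φ x.x1 := rfl
theorem mul_x4 (x y : Sy φ) :
    (x * y).x4 = x.x4 + y.x4 + y.x6 ^ 2 * nm φ x.x1 + tr φ (x.x1 * sh φ y.x5) + y.x6 * tr φ (sh φ x.x1 * y.x5) - x.x2 * y.x6
      + tr φ (x.x3 * (y.x5 + y.x6 • x.x1)) := rfl

@[simp] theorem one_x1 : (1 : Sy φ).x1 = 0 := rfl
@[simp] theorem one_x6 : (1 : Sy φ).x6 = 0 := rfl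
@[simp] theorem one_x5 : (1 : Sy φ).x5 = 0 := rfl
@[simp] theorem one_x3 : (1 : Sy φ).x3 = 0 := rfl
@[simp] theorem one_x2 : (1 : Sy φ).x2 = 0 := rfl
@[simp] theorem one_x4 : (1 : Sy φ).x4 = 0 := rfl

theorem inv_x1 (x : Sy φ) : (x⁻¹).x1 = -x.x1 := rfl
theorem inv_x6 (x : Sy φ) : (x⁻¹).x6 = -x.x6 := rfl
theorem inv_x5 (x : Sy φ) : (x⁻¹).x5 = -x.x5 + x.x6 • x.x1 := rfl
theorem inv_x3 (x : Sy φ) : (x⁻¹).x3 = -x.x3 + cr φ x.x1 x.x5 - x.x6 • sh φ x.x1 := rfl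
theorem inv_x2 (x : Sy φ) : (x⁻¹).x2 = -x.x2 + tr φ (x.x1 * x.x3) - tr φ (sh φ x.x1 * x.x5) + x.x6 * nm φ x.x1 := rfl
theorem inv_x4 (x : Sy φ) : (x⁻¹).x4 = -x.x4 + x.x6 ^ 2 * nm φ x.x1 + tr φ (x.x1 * sh φ x.x5)
      - x.x6 * tr φ (sh φ x.x1 * x.x5)
      + (-x.x2 + tr φ (x.x1 * x.x3) - tr φ (sh φ x.x1 * x.x5) + x.x6 * nm φ x.x1) * x.x6
      - tr φ ((-x.x3 + cr φ x.x1 x.x5 - x.x6 • sh φ x.x1) * (x.x5 - x.x6 • x.x1)) := rfl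

variable [Cub φ]

theorem mul_assoc' (x y z : Sy φ) : x * y * z = x * (y * z) := by
  ext
  · rw [mul_x1, mul_x1, mul_x1, mul_x1]; ring
  · rw [mul_x6, mul_x6, mul_x6, mul_x6]; ring
  · rw [mul_x5, mul_x5, mul_x5, mul_x5, mul_x1, mul_x6]; cub
  · rw [mul_x3, mul_x3, mul_x3, mul_x3, mul_x1, mul_x6, mul_x5]; cub
  · rw [mul_x2, mul_x2, mul_x2, mul_x2, mul_x1, mul_x6, mul_x5, mul_x3]
    apply (algebraMap F K).injective
    cub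
  · rw [mul_x4, mul_x4, mul_x4, mul_x4, mul_x1, mul_x6, mul_x5, mul_x3, mul_x2]
    apply (algebraMap F K).injective
    cub

theorem one_mul' (x : Sy φ) : 1 * x = x := by
  ext
  · rw [mul_x1]; simp
  · rw [mul_x6]; simp
  · rw [mul_x5]; simp
  · rw [mul_x3, one_x3, one_x1]; cub
  · rw [mul_x2, one_x2, one_x1]
    apply (algebraMap F K).injective
    cub
  · rw [mul_x4, one_x4, one_x1, one_x2, one_x3]
    apply (algebraMap F K).injective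
    cub

theorem inv_mul' (x : Sy φ) : x⁻¹ * x = 1 := by
  ext
  · rw [mul_x1, inv_x1]; simp
  · rw [mul_x6, inv_x6]; simp
  · rw [mul_x5, inv_x5, inv_x1, one_x5]; cub
  · rw [mul_x3, inv_x3, inv_x1, one_x3]; cub
  · rw [mul_x2, inv_x2, inv_x1, one_x2]
    apply (algebraMap F K).injective
    cub
  · rw [mul_x4, inv_x4, inv_x1, inv_x2, inv_x3, one_x4]
    apply (algebraMap F K).injective
    cub

noncomputable instance : Group (Sy φ) := Group.ofLeftAxioms mul_assoc' one_mul' inv_mul'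

theorem mul_def (x y : Sy φ) : x * y =
  { x1 := x.x1 + y.x1
    x6 := x.x6 + y.x6
    x5 := x.x5 + y.x5 + y.x6 • x.x1
    x3 := x.x3 + y.x3 + cr φ x.x1 y.x5 + y.x6 • sh φ x.x1
    x2 := x.x2 + y.x2 + tr φ (x.x1 * y.x3) + tr φ (sh φ x.x1 * y.x5) + y.x6 * nm φ x.x1
    x4 := x.x4 + y.x4 + y.x6 ^ 2 * nm φ x.x1 + tr φ (x.x1 * sh φ y.x5) + y.x6 * tr φ (sh φ x.x1 * y.x5) - x.x2 * y.x6
      + tr φ (x.x3 * (y.x5 + y.x6 • x.x1)) } := rfl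

/-- the coordinates -/
def equiv (φ : K ≃ₐ[F] K) : Sy φ ≃ K × F × K × K × F × F where
  toFun x := (x.x1, x.x6, x.x5, x.x3, x.x2, x.x4)
  invFun v := ⟨v.1, v.2.1, v.2.2.1, v.2.2.2.1, v.2.2.2.2.1, v.2.2.2.2.2⟩
  left_inv _ := rfl
  right_inv _ := rfl

instance [Finite K] [Finite F] : Finite (Sy φ) := Finite.of_equiv _ (equiv φ).symm

theorem card_eq [Finite K] [Finite F] : Nat.card (Sy φ) = Nat.card K ^ 3 * Nat.card F ^ 3 := by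
  rw [Nat.card_congr (equiv φ)]
  simp only [Nat.card_prod]
  ring

/-! ### Root groups -/

set_option linter.unusedVariables false in
def u1 (φ : K ≃ₐ[F] K) (a : K) : Sy φ := ⟨a, 0, 0, 0, 0, 0⟩
def u6 (φ : K ≃ₐ[F] K) (u : F) : Sy φ := ⟨0, u, 0, 0, 0, 0⟩
def u5 (φ : K ≃ₐ[F] K) (c : K) : Sy φ := ⟨0, 0, c, 0, 0, 0⟩
def u3 (φ : K ≃ₐ[F] K) (b : K) : Sy φ := ⟨0, 0, 0, b, 0, 0⟩
def u2 (φ : K ≃ₐ[F] K) (t : F) : Sy φ := ⟨0, 0, 0, 0, t, 0⟩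
def u4 (φ : K ≃ₐ[F] K) (w : F) : Sy φ := ⟨0, 0, 0, 0, 0, w⟩

set_option linter.unusedVariables false in
theorem FK_inj (φ : K ≃ₐ[F] K) {s t : F} (h : algebraMap F K s = algebraMap F K t) : s = t :=
  (algebraMap F K).injective h

/-- the tactic for identities of products of explicit elements -/
macro "sy" f:term : tactic => `(tactic|
  (ext <;> simp only [mul_def, u1, u6, u5, u3, u2, u4, one_x1, one_x6, one_x5, one_x3, one_x2, one_x4] <;>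
    first
    | (apply FK_inj $f; cub; done)
    | (cub; done)
    | (ring; done)))

/-- the tactic for coordinate identities over `F` -/
macro "fk" f:term : tactic => `(tactic| (apply FK_inj $f; cub; done))

theorem k16 (a : K) (u : F) : u1 φ a * u6 φ u =
    u6 φ u * u5 φ (u • a) * u3 φ (u • sh φ a) * u2 φ (u * nm φ a) * u4 φ (u ^ 2 * nm φ a) * u1 φ a := by
  sy φ

theorem k15 (a c : K) : u1 φ a * u5 φ c =
    u5 φ c * u3 φ (cr φ a c) * u2 φ (tr φ (sh φ a * c)) * u4 φ (tr φ (a * sh φ c)) * u1 φ a := by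
  sy φ

theorem k13 (a b : K) : u1 φ a * u3 φ b = u3 φ b * u2 φ (tr φ (a * b)) * u1 φ a := by sy φ
theorem k12 (a : K) (t : F) : u1 φ a * u2 φ t = u2 φ t * u1 φ a := by sy φ
theorem k14 (a : K) (w : F) : u1 φ a * u4 φ w = u4 φ w * u1 φ a := by sy φ
theorem k56 (u : F) (c : K) : u6 φ u * u5 φ c = u5 φ c * u6 φ u := by sy φ
theorem k36 (u : F) (b : K) : u6 φ u * u3 φ b = u3 φ b * u6 φ u := by sy φ
theorem k26 (u t : F) : u2 φ t * u6 φ u = u6 φ u * u2 φ t * u4 φ (-(t * u)) := by sy φ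
theorem k46 (u w : F) : u6 φ u * u4 φ w = u4 φ w * u6 φ u := by sy φ
theorem k35 (c b : K) : u3 φ b * u5 φ c = u5 φ c * u3 φ b * u4 φ (tr φ (b * c)) := by sy φ
theorem k25 (c : K) (t : F) : u5 φ c * u2 φ t = u2 φ t * u5 φ c := by sy φ
theorem k45 (c : K) (w : F) : u5 φ c * u4 φ w = u4 φ w * u5 φ c := by sy φ
theorem k23 (b : K) (t : F) : u3 φ b * u2 φ t = u2 φ t * u3 φ b := by sy φ
theorem k34 (b : K) (w : F) : u3 φ b * u4 φ w = u4 φ w * u3 φ b := by sy φ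
theorem k24 (t w : F) : u2 φ t * u4 φ w = u4 φ w * u2 φ t := by sy φ

theorem u1_add (s t : K) : u1 φ (s + t) = u1 φ s * u1 φ t := by sy φ
theorem u6_add (s t : F) : u6 φ (s + t) = u6 φ s * u6 φ t := by sy φ
theorem u5_add (s t : K) : u5 φ (s + t) = u5 φ s * u5 φ t := by sy φ
theorem u3_add (s t : K) : u3 φ (s + t) = u3 φ s * u3 φ t := by sy φ
theorem u2_add (s t : F) : u2 φ (s + t) = u2 φ s * u2 φ t := by sy φ
theorem u4_add (s t : F) : u4 φ (s + t) = u4 φ s * u4 φ t := by sy φ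

/-- normal form -/
theorem eq_prod (x : Sy φ) :
    x = u6 φ x.x6 * u5 φ x.x5 * u3 φ x.x3 * u2 φ x.x2 * u4 φ x.x4 * u1 φ x.x1 := by sy φ

/-! ### Subgroups -/

variable (φ) in
/-- `Q1 = U2 U3 U4 U5 U6` -/
def Q1 : Subgroup (Sy φ) where
  carrier := {x | x.x1 = 0}
  one_mem' := rfl
  mul_mem' {x y} hx hy := by
    simp only [Set.mem_ofPred_eq] at hx hy ⊢
    rw [mul_x1, hx, hy, add_zero]
  inv_mem' {x} hx := by
    simp only [Set.mem_ofPred_eq] at hx ⊢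
    rw [inv_x1, hx, neg_zero]

variable (φ) in
/-- `Q2 = U1 U2 U3 U4 U5` -/
def Q2 : Subgroup (Sy φ) where
  carrier := {x | x.x6 = 0}
  one_mem' := rfl
  mul_mem' {x y} hx hy := by
    simp only [Set.mem_ofPred_eq] at hx hy ⊢
    rw [mul_x6, hx, hy, add_zero]
  inv_mem' {x} hx := by
    simp only [Set.mem_ofPred_eq] at hx ⊢
    rw [inv_x6, hx, neg_zero]

variable (φ) in
/-- `Z4 = u5 u3 u2 u4` -/
def Z4 : Subgroup (Sy φ) where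
  carrier := {x | x.x1 = 0 ∧ x.x6 = 0}
  one_mem' := ⟨rfl, rfl⟩
  mul_mem' {x y} hx hy := by
    simp only [Set.mem_ofPred_eq] at hx hy ⊢
    rw [mul_x1, mul_x6, hx.1, hy.1, hx.2, hy.2, add_zero, add_zero]
    exact ⟨rfl, rfl⟩
  inv_mem' {x} hx := by
    simp only [Set.mem_ofPred_eq] at hx ⊢
    rw [inv_x1, inv_x6, hx.1, hx.2, neg_zero, neg_zero]
    exact ⟨rfl, rfl⟩

variable (φ) in
/-- `Z3 = u3 u2 u4` -/
def Z3 : Subgroup (Sy φ) where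
  carrier := {x | x.x1 = 0 ∧ x.x6 = 0 ∧ x.x5 = 0}
  one_mem' := ⟨rfl, rfl, rfl⟩
  mul_mem' {x y} hx hy := by
    simp only [Set.mem_ofPred_eq] at hx hy ⊢
    rw [mul_x1, mul_x6, mul_x5, hx.1, hy.1, hx.2.1, hy.2.1, hx.2.2, hy.2.2]
    simp
  inv_mem' {x} hx := by
    simp only [Set.mem_ofPred_eq] at hx ⊢
    rw [inv_x1, inv_x6, inv_x5, hx.1, hx.2.1, hx.2.2]
    simp

variable (φ) in
/-- `Z2 = u2 u4` -/
def Z2 : Subgroup (Sy φ) where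
  carrier := {x | x.x1 = 0 ∧ x.x6 = 0 ∧ x.x5 = 0 ∧ x.x3 = 0}
  one_mem' := ⟨rfl, rfl, rfl, rfl⟩
  mul_mem' {x y} hx hy := by
    simp only [Set.mem_ofPred_eq] at hx hy ⊢
    rw [mul_x1, mul_x6, mul_x5, mul_x3, hx.1, hy.1, hx.2.1, hy.2.1, hx.2.2.1, hy.2.2.1, hx.2.2.2, hy.2.2.2]
    simp [cr]
  inv_mem' {x} hx := by
    simp only [Set.mem_ofPred_eq] at hx ⊢
    rw [inv_x1, inv_x6, inv_x5, inv_x3, hx.1, hx.2.1, hx.2.2.1, hx.2.2.2]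
    simp [cr]

variable (φ) in
/-- `Z1 = u4` -/
def Z1 : Subgroup (Sy φ) where
  carrier := {x | x.x1 = 0 ∧ x.x6 = 0 ∧ x.x5 = 0 ∧ x.x3 = 0 ∧ x.x2 = 0}
  one_mem' := ⟨rfl, rfl, rfl, rfl, rfl⟩
  mul_mem' {x y} hx hy := by
    simp only [Set.mem_ofPred_eq] at hx hy ⊢
    obtain ⟨h1, h2, h3, h4, h5⟩ := hx
    obtain ⟨h1', h2', h3', h4', h5'⟩ := hy
    rw [mul_x1, mul_x6, mul_x5, mul_x3, mul_x2, h1, h2, h3, h4, h5, h1', h2', h3', h4', h5']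
    simp [cr, tr_zero]
  inv_mem' {x} hx := by
    simp only [Set.mem_ofPred_eq] at hx ⊢
    obtain ⟨h1, h2, h3, h4, h5⟩ := hx
    rw [inv_x1, inv_x6, inv_x5, inv_x3, inv_x2, h1, h2, h3, h4, h5]
    simp [cr, tr_zero]

theorem mem_Q1 {x : Sy φ} : x ∈ Q1 φ ↔ x.x1 = 0 := Iff.rfl
theorem mem_Q2 {x : Sy φ} : x ∈ Q2 φ ↔ x.x6 = 0 := Iff.rfl
theorem mem_Z4 {x : Sy φ} : x ∈ Z4 φ ↔ x.x1 = 0 ∧ x.x6 = 0 := Iff.rfl
theorem mem_Z3 {x : Sy φ} : x ∈ Z3 φ ↔ x.x1 = 0 ∧ x.x6 = 0 ∧ x.x5 = 0 := Iff.rfl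
theorem mem_Z2 {x : Sy φ} : x ∈ Z2 φ ↔ x.x1 = 0 ∧ x.x6 = 0 ∧ x.x5 = 0 ∧ x.x3 = 0 := Iff.rfl
theorem mem_Z1 {x : Sy φ} : x ∈ Z1 φ ↔ x.x1 = 0 ∧ x.x6 = 0 ∧ x.x5 = 0 ∧ x.x3 = 0 ∧ x.x2 = 0 := Iff.rfl

theorem Z1_le_Z2 : Z1 φ ≤ Z2 φ := fun _ h => ⟨h.1, h.2.1, h.2.2.1, h.2.2.2.1⟩
theorem Z2_le_Z3 : Z2 φ ≤ Z3 φ := fun _ h => ⟨h.1, h.2.1, h.2.2.1⟩
theorem Z3_le_Z4 : Z3 φ ≤ Z4 φ := fun _ h => ⟨h.1, h.2.1⟩
theorem Z4_le_Q1 : Z4 φ ≤ Q1 φ := fun _ h => h.1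
theorem Z4_le_Q2 : Z4 φ ≤ Q2 φ := fun _ h => h.2
theorem Q1_inf_Q2 : Q1 φ ⊓ Q2 φ = Z4 φ := rfl

/-- `x y = z y x` for the commutator `z` -/
theorem comm_mul (x y : Sy φ) : x * y = ⁅x, y⁆ * (y * x) := by
  rw [commutatorElement_def]; group

theorem comm_eq {x y z : Sy φ} (h : x * y = z * (y * x)) : ⁅x, y⁆ = z := by
  have := comm_mul x y
  rw [h] at this
  exact (mul_right_cancel this).symm

theorem comm_x1 (x y : Sy φ) : (⁅x, y⁆).x1 = 0 := by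
  have := congrArg Sy.x1 (comm_mul x y)
  rw [mul_x1, mul_x1, mul_x1] at this
  linear_combination -this

theorem comm_x6 (x y : Sy φ) : (⁅x, y⁆).x6 = 0 := by
  have := congrArg Sy.x6 (comm_mul x y)
  rw [mul_x6, mul_x6, mul_x6] at this
  linear_combination -this

theorem comm_mem_Z4 (x y : Sy φ) : ⁅x, y⁆ ∈ Z4 φ := ⟨comm_x1 x y, comm_x6 x y⟩

theorem comm_x5 (x y : Sy φ) : (⁅x, y⁆).x5 = y.x6 • x.x1 - x.x6 • y.x1 := by
  have := congrArg Sy.x5 (comm_mul x y)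
  rw [mul_x5, mul_x5, mul_x5, comm_x1, smul_zero] at this
  linear_combination -this

/-- `y ∈ Z4`: the commutator lies in `Z3` and has `b = x.x1 × y.x5`, `t = T(x.x1, y.x3) + T(x.x1^#, y.x5)` -/
theorem comm_mem_Z3 {x y : Sy φ} (hy : y ∈ Z4 φ) : ⁅x, y⁆ ∈ Z3 φ :=
  ⟨comm_x1 x y, comm_x6 x y, by rw [comm_x5, hy.1, hy.2]; simp⟩

theorem comm_x3 {x y : Sy φ} (hy : y ∈ Z4 φ) : (⁅x, y⁆).x3 = cr φ x.x1 y.x5 := by
  have := congrArg Sy.x3 (comm_mul x y)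
  rw [mul_x3, mul_x3, mul_x3, comm_x1, hy.1, hy.2] at this
  simp only [cr_zero_left, sh_zero, smul_zero, zero_smul, add_zero] at this
  linear_combination -this

theorem comm_x2 {x y : Sy φ} (hy : y ∈ Z4 φ) :
    (⁅x, y⁆).x2 = tr φ (x.x1 * y.x3) + tr φ (sh φ x.x1 * y.x5) := by
  have := congrArg Sy.x2 (comm_mul x y)
  rw [mul_x2, mul_x2, mul_x2, comm_x1, hy.1, hy.2] at this
  simp only [sh_zero, nm_zero, zero_mul, mul_zero, tr_zero, add_zero] at this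
  linear_combination -this

theorem comm_mem_Z2 {x y : Sy φ} (hy : y ∈ Z3 φ) : ⁅x, y⁆ ∈ Z2 φ :=
  ⟨comm_x1 x y, comm_x6 x y, by rw [comm_x5, hy.1, hy.2.1]; simp, by
    rw [comm_x3 (Z3_le_Z4 hy), hy.2.2, cr_zero_right]⟩

theorem comm_x2' {x y : Sy φ} (hy : y ∈ Z3 φ) : (⁅x, y⁆).x2 = tr φ (x.x1 * y.x3) := by
  rw [comm_x2 (Z3_le_Z4 hy), hy.2.2, mul_zero, tr_zero, add_zero]

theorem comm_x4' {x y : Sy φ} (hy : y ∈ Z3 φ) :
    (⁅x, y⁆).x4 = x.x6 * y.x2 - tr φ (y.x3 * x.x5) + x.x6 * tr φ (x.x1 * y.x3) := by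
  have h1 := congrArg Sy.x4 (comm_mul x y)
  have h2 := comm_mem_Z2 (x := x) hy
  rw [mul_x4, mul_x4, mul_x4, h2.1, comm_x2' hy, h2.2.2.2, hy.1, hy.2.1, hy.2.2] at h1
  simp only [sh_zero, nm_zero, zero_mul, mul_zero, tr_zero, add_zero, sub_zero, zero_smul, mul_x6, mul_x5,
    hy.2.1, hy.2.2, hy.1, smul_zero, zero_add] at h1
  linear_combination -h1

/-- commutators of `Z2` with `S` -/
theorem comm_Z2 {x y : Sy φ} (hy : y ∈ Z2 φ) : ⁅x, y⁆ = u4 φ (x.x6 * y.x2) := by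
  have hy' := Z2_le_Z3 hy
  have h2 := comm_mem_Z2 (x := x) hy'
  ext
  · exact h2.1
  · exact h2.2.1
  · exact h2.2.2.1
  · exact h2.2.2.2
  · rw [comm_x2' hy', hy.2.2.2, mul_zero, tr_zero]; rfl
  · rw [comm_x4' hy', hy.2.2.2, mul_zero, zero_mul, tr_zero]
    simp [u4]

theorem comm_Z1 {x y : Sy φ} (hy : y ∈ Z1 φ) : ⁅x, y⁆ = 1 := by
  rw [comm_Z2 (Z1_le_Z2 hy), hy.2.2.2.2, mul_zero]; rfl

/-- the symplectic form on `Q1 / Z1` -/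
noncomputable def form (x y : Sy φ) : F :=
  x.x6 * y.x2 - x.x2 * y.x6 - tr φ (x.x5 * y.x3) + tr φ (x.x3 * y.x5)

/-- commutators in `Q1` -/
theorem comm_Q1 {x y : Sy φ} (hx : x ∈ Q1 φ) (hy : y ∈ Q1 φ) : ⁅x, y⁆ = u4 φ (form x y) := by
  have hx' : x.x1 = 0 := hx
  have hy' : y.x1 = 0 := hy
  apply comm_eq
  ext
  · simp only [mul_def, u4]; rw [hx', hy']; ring
  · simp only [mul_def, u4]; ring
  · simp only [mul_def, u4, hx', hy']; cub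
  · simp only [mul_def, u4, hx', hy']; cub
  · simp only [mul_def, u4, hx', hy']; apply (algebraMap F K).injective; cub
  · simp only [mul_def, u4, hx', hy', form]; apply (algebraMap F K).injective; cub

instance : (Q1 φ).Normal := ⟨fun x hx g => by
  rw [mem_Q1] at hx ⊢
  rw [mul_x1, mul_x1, inv_x1, hx]; ring⟩

instance : (Q2 φ).Normal := ⟨fun x hx g => by
  rw [mem_Q2] at hx ⊢
  rw [mul_x6, mul_x6, inv_x6, hx]; ring⟩

/-- a subgroup containing the commutators is normal -/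
theorem normal_of_comm {H : Subgroup (Sy φ)} (h : ∀ x : Sy φ, ∀ y ∈ H, ⁅x, y⁆ ∈ H) : H.Normal := ⟨fun y hy x => by
  have : x * y * x⁻¹ = ⁅x, y⁆ * y := by rw [commutatorElement_def]; group
  rw [this]
  exact mul_mem (h x y hy) hy⟩

instance : (Z4 φ).Normal := normal_of_comm fun x y _ => comm_mem_Z4 x y
instance : (Z3 φ).Normal := normal_of_comm fun _ _ hy => Z3_le_Z4 hy |> comm_mem_Z3
instance : (Z2 φ).Normal := normal_of_comm fun _ _ hy => comm_mem_Z2 (Z2_le_Z3 hy)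
instance : (Z1 φ).Normal := normal_of_comm fun _ _ hy => by rw [comm_Z1 hy]; exact one_mem _

end Sy

end Cfsg.Agent.H765.D3
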