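import Cfsg.Agent.H765.D3.Pos

/-!
# S5261: for `q > 2` every automorphism of `Sy φ` is standard on `S / Q1` and `S / Q2`
-/

set_option autoImplicit false
set_option linter.unusedSectionVars false

namespace Cfsg.Agent.H765.D3

open Cfsg.Agent.Hexagon.Pos
open Cfsg.Agent.Hex.Defs (sh cr nm tr)
open scoped commutatorElement

variable {F K : Type*} [Field F] [Field K] [Algebra F K]
variable {φ : K ≃ₐ[F] K} [Cub φ]

namespace Sy

variable (α : Sy φ ≃* Sy φ)

theorem al6_one_ne : al6 α 1 ≠ 0 := fun h => by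
  have := (al6_bij α).1 (h.trans (al6_zero α).symm)
  exact one_ne_zero this

theorem al1_one_ne : al1 α 1 ≠ 0 := fun h => by
  have := (al1_bij α).1 (h.trans (al1_zero α).symm)
  exact one_ne_zero this

theorem al5_eq (a : K) : al5 α a = al6 α 1 • al1 α a := by
  have := al5_smul α 1 a
  rwa [one_smul] at this

/-- the quotient `al6 u / al6 1` -/
noncomputable def rhoF (u : F) : F := al6 α u / al6 α 1

theorem al6_eq (u : F) : al6 α u = al6 α 1 * rhoF α u := by
  rw [rhoF, mul_div_cancel₀ _ (al6_one_ne α)]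

theorem al1_smul (u : F) (a : K) : al1 α (u • a) = rhoF α u • al1 α a := by
  have h := al5_smul α u a
  rw [al5_eq, al6_eq α u, mul_smul] at h
  exact smul_right_injective K (al6_one_ne α) h

theorem rhoF_mul (u v : F) : rhoF α (u * v) = rhoF α u * rhoF α v := by
  have h := al1_smul α (u * v) 1
  rw [mul_smul, al1_smul, al1_smul, smul_smul] at h
  exact (smul_left_injective F (al1_one_ne α) h).symm

theorem rhoF_one : rhoF α 1 = 1 := div_self (al6_one_ne α)

theorem rhoF_zero : rhoF α 0 = 0 := by rw [rhoF, al6_zero, zero_div]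

theorem rhoF_add (u v : F) : rhoF α (u + v) = rhoF α u + rhoF α v := by
  rw [rhoF, rhoF, rhoF, al6_add, add_div]

/-- the induced automorphism of `F` -/
noncomputable def rho [Finite F] : F ≃+* F :=
  RingEquiv.ofBijective
    ({ toFun := rhoF α
       map_one' := rhoF_one α
       map_mul' := rhoF_mul α
       map_zero' := rhoF_zero α
       map_add' := rhoF_add α } : F →+* F)
    (Finite.injective_iff_bijective.1 (RingHom.injective _))

theorem rho_apply [Finite F] (u : F) : rho α u = rhoF α u := rfl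

theorem al3_smul (u : F) (b : K) : al3 α (u • b) = rhoF α u • al3 α b := by
  obtain ⟨a, c, c', rfl⟩ := exists_cr_add φ b
  rw [smul_add, al3_add, al3_add, ← cr_smul_left, ← cr_smul_left, al3_cr, al3_cr, al3_cr, al3_cr, al1_smul,
    al1_smul, cr_smul_left, cr_smul_left, smul_add]

theorem exists_form [Finite K] {g : Gal φ} {f : K → K} (hadd : ∀ s t, f (s + t) = f s + f t)
    (hsmul : ∀ (u : F) (a : K), f (u • a) = g.ρ u • f a) :
    ∃ A B C : K, ∀ a, f a = A * g.τ a + B * φ (g.τ a) + C * φ (φ (g.τ a)) := by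
  have e : ∀ (u : F) (x : K), g.τ.symm (u • x) = g.ρ.symm u • g.τ.symm x := fun u x =>
    tau_smul g.symm u x
  let L : K →ₗ[F] K :=
    { toFun := fun x => f (g.τ.symm x)
      map_add' := fun x y => by rw [map_add, hadd]
      map_smul' := fun u x => by rw [e, hsmul, RingEquiv.apply_symm_apply]; rfl }
  obtain ⟨A, B, C, h⟩ := exists_lin φ L
  refine ⟨A, B, C, fun a => ?_⟩
  have h1 := h (g.τ a)
  have h2 : L (g.τ a) = f a := by
    change f (g.τ.symm (g.τ a)) = f a
    rw [RingEquiv.symm_apply_apply]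
  rw [← h2, h1]

/-- commutator of an element of `Q2` and one of `Q1`, `x3`-coordinate -/
theorem comm_x3_gen {x y : Sy φ} (hx : x.x6 = 0) (hy : y.x1 = 0) :
    (⁅x, y⁆).x3 = cr φ x.x1 y.x5 + y.x6 • sh φ x.x1 := by
  have := congrArg Sy.x3 (comm_mul x y)
  rw [mul_x3, mul_x3, mul_x3, comm_x1, hx, hy] at this
  simp only [cr_zero_left, sh_zero, smul_zero, zero_smul, add_zero] at this
  linear_combination -this

/-- the `x3`-coordinate on `Z4` -/
theorem apply_x3_Z4 {z : Sy φ} (hz : z ∈ Z4 φ) :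
    (α z).x3 = (α (u5 φ z.x5)).x3 + al3 α z.x3 := by
  have h1 : z = u5 φ z.x5 * ((u5 φ z.x5)⁻¹ * z) := by group
  have h2 : ((u5 φ z.x5)⁻¹ * z) ∈ Z3 φ := by
    have := mul_mem (inv_mem (u5_mem (φ := φ) z.x5)) hz
    refine ⟨this.1, this.2, ?_⟩
    rw [mul_x5, inv_x5, hz.2]
    simp [u5]
  have h3 : ((u5 φ z.x5)⁻¹ * z).x3 = z.x3 := by
    rw [mul_x3, inv_x3, inv_x1, hz.2]
    simp only [u5, neg_zero, cr_zero_left, zero_smul, add_zero, sub_zero, zero_add]
  conv_lhs => rw [h1]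
  rw [map_mul, mul_x3, (map_Z4 α (u5_mem (φ := φ) z.x5)).1, cr_zero_left, sh_zero, smul_zero, add_zero, add_zero,
    apply_x3 α h2, h3]

theorem del_eq (u : F) (a : K) : (α (u5 φ (u • a))).x3 + al3 α (u • sh φ a) =
    cr φ (al1 α a) (α (u6 φ u)).x5 + al6 α u • sh φ (al1 α a) := by
  have h1 : (α ⁅u1 φ a, u6 φ u⁆).x3 = cr φ (al1 α a) (α (u6 φ u)).x5 + al6 α u • sh φ (al1 α a) := by
    rw [map_commutatorElement, comm_x3_gen (u1_x6 α a) (u6_x1 α u)]
    rfl
  have h2 := apply_x3_Z4 α (comm_mem_Z4 (u1 φ a) (u6 φ u))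
  have h3 : (⁅u1 φ a, u6 φ u⁆).x5 = u • a := by
    rw [comm_x5]
    simp [u1, u6]
  have h4 : (⁅u1 φ a, u6 φ u⁆).x3 = u • sh φ a := by
    rw [comm_x3_gen rfl rfl]
    simp only [u1, u6, cr_zero_right, zero_add]
  rw [h3, h4, h1] at h2
  exact h2.symm

/-- the quadratic relation -/
theorem al3_sh {v : F} (hv0 : v ≠ 0) (hv1 : v ≠ 1) (a : K) :
    al3 α (sh φ a) = al6 α 1 • sh φ (al1 α a) := by
  let D : K → K := fun a => al3 α (sh φ a) - al6 α 1 • sh φ (al1 α a)
  have hD : ∀ u a, (α (u5 φ (u • a))).x3 = cr φ (al1 α a) (α (u6 φ u)).x5 - rhoF α u • D a := fun u a => by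
    have h := del_eq α u a
    rw [al3_smul, al6_eq α u, mul_comm, mul_smul] at h
    simp only [D, smul_sub]
    linear_combination h
  have hDs : ∀ u a, D (u • a) = rhoF α u ^ 2 • D a := fun u a => by
    simp only [D]
    rw [sh_smul, al3_smul, al1_smul, sh_smul, sq, rhoF_mul, smul_sub, ← sq, smul_comm]
  set r : F := rhoF α v ^ 2 - rhoF α v with hr
  have hinj : Function.Injective (rhoF α) := by
    intro x y h
    apply (al6_bij α).1
    rw [al6_eq, al6_eq α y, h]
  have hr0 : r ≠ 0 := by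
    intro h
    have h1 : rhoF α v * (rhoF α v - 1) = 0 := by rw [hr] at h; linear_combination h
    rcases mul_eq_zero.1 h1 with h2 | h2
    · exact hv0 (hinj (h2.trans (rhoF_zero α).symm))
    · exact hv1 (hinj ((sub_eq_zero.1 h2).trans (rhoF_one α).symm))
  have h1 : ∀ a, r • D a = cr φ (al1 α a) (rhoF α v • (α (u6 φ 1)).x5 - (α (u6 φ v)).x5) := fun a => by
    have e1 := hD v a
    have e2 := hD 1 (v • a)
    rw [one_smul, rhoF_one, one_smul, hDs, al1_smul, cr_smul_left] at e2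
    have e3 : cr φ (al1 α a) (rhoF α v • (α (u6 φ 1)).x5 - (α (u6 φ v)).x5) =
        rhoF α v • cr φ (al1 α a) (α (u6 φ 1)).x5 - cr φ (al1 α a) (α (u6 φ v)).x5 := by
      rw [sub_eq_add_neg, cr_add_right, cr_neg_right, cr_smul_right, sub_eq_add_neg]
    rw [e3, hr, sub_smul]
    linear_combination e2 - e1
  have h2 : r • (r • D a) = 0 := by
    have e1 := h1 (v • a)
    rw [hDs, al1_smul, cr_smul_left, ← h1 a, smul_smul, smul_smul, ← sub_eq_zero, ← sub_smul] at e1
    rw [smul_smul]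
    convert e1 using 2
    rw [hr]; ring
  have h3 : D a = 0 := by
    rcases smul_eq_zero.1 h2 with h | h
    · exact absurd h hr0
    · exact (smul_eq_zero.1 h).resolve_left hr0
  exact sub_eq_zero.1 h3

/-- **Every automorphism is standard on `S/Q1` and `S/Q2`, `q > 2`** -/
theorem exists_std [Finite K] {v : F} (hv0 : v ≠ 0) (hv1 : v ≠ 1) :
    ∃ (l : Kˣ) (m : Fˣ) (g : Gal φ), ∀ x, (α x).x1 = l * g.τ x.x1 ∧ (α x).x6 = m * g.ρ x.x6 := by
  have hF := finite_F φ
  obtain ⟨g, hg⟩ := exists_gal (φ := φ) (rho α)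
  have hgr : ∀ u, g.ρ u = rhoF α u := fun u => by rw [hg]; rfl
  obtain ⟨A, B, C, h1⟩ := exists_form (g := g) (al1_add α) (fun u a => by rw [hgr, al1_smul])
  obtain ⟨A', B', C', h3⟩ := exists_form (g := g) (al3_add α) (fun u a => by rw [hgr, al3_smul])
  have hm : (algebraMap F K (al6 α 1)) ≠ 0 := by
    rw [map_ne_zero]
    exact al6_one_ne α
  have key := quad_indep φ (m0 := -(algebraMap F K (al6 α 1)) * (φ C * φ (φ B)))
    (m1 := -(algebraMap F K (al6 α 1)) * (φ A * φ (φ C))) (m2 := -(algebraMap F K (al6 α 1)) * (φ B * φ (φ A)))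
    (n0 := A' - algebraMap F K (al6 α 1) * (φ A * φ (φ A) + φ B * φ (φ C)))
    (n1 := B' - algebraMap F K (al6 α 1) * (φ B * φ (φ B) + φ C * φ (φ A)))
    (n2 := C' - algebraMap F K (al6 α 1) * (φ C * φ (φ C) + φ A * φ (φ B))) (fun s => by
      have h := al3_sh α hv0 hv1 (g.τ.symm s)
      rw [h3, h1, tau_sh, RingEquiv.apply_symm_apply, Algebra.smul_def] at h
      simp only [sh, map_add, map_mul, phi3] at h
      linear_combination h)
  obtain ⟨k0, k1, k2, -⟩ := key
  have k0' := (mul_eq_zero.1 k0).resolve_left (neg_ne_zero.2 hm)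
  have k1' := (mul_eq_zero.1 k1).resolve_left (neg_ne_zero.2 hm)
  have k2' := (mul_eq_zero.1 k2).resolve_left (neg_ne_zero.2 hm)
  rw [mul_eq_zero] at k0' k1' k2'
  simp only [EmbeddingLike.map_eq_zero_iff] at k0' k1' k2'
  have hx6 : ∀ x, (α x).x6 = (Units.mk0 _ (al6_one_ne α) : Fˣ) * g.ρ x.x6 := fun x => by
    rw [apply_x6, al6_eq, hgr]; rfl
  have h0 : ¬ (A = 0 ∧ B = 0 ∧ C = 0) := by
    rintro ⟨rfl, rfl, rfl⟩
    apply al1_one_ne α
    rw [h1]; ring
  by_cases hA : A = 0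
  · by_cases hB : B = 0
    · have hC : C ≠ 0 := fun hC => h0 ⟨hA, hB, hC⟩
      refine ⟨Units.mk0 C hC, Units.mk0 _ (al6_one_ne α), g.trans ((Gal.ofPhi φ).trans (Gal.ofPhi φ)), fun x =>
        ⟨?_, hx6 x⟩⟩
      rw [apply_x1, h1, hA, hB, zero_mul, zero_mul, zero_add, zero_add]
      rfl
    · have hC : C = 0 := k0'.resolve_right hB
      refine ⟨Units.mk0 B hB, Units.mk0 _ (al6_one_ne α), g.trans (Gal.ofPhi φ), fun x => ⟨?_, hx6 x⟩⟩
      rw [apply_x1, h1, hA, hC, zero_mul, zero_mul, zero_add, add_zero]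
      rfl
  · have hC : C = 0 := k1'.resolve_left hA
    have hB : B = 0 := k2'.resolve_right hA
    refine ⟨Units.mk0 A hA, Units.mk0 _ (al6_one_ne α), g, fun x => ⟨?_, hx6 x⟩⟩
    rw [apply_x1, h1, hB, hC, zero_mul, zero_mul, add_zero, add_zero]
    rfl

end Sy

end Cfsg.Agent.H765.D3
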